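import Cfsg.Agent.RealElements.Basic
import Cfsg.Agent.ValueOrder.Basic
import Mathlib.GroupTheory.Nilpotent
import Mathlib.GroupTheory.SchurZassenhaus
import Mathlib.GroupTheory.Perm.Cycle.Type

/-!
# Lifting real elements to a group from a quotient

A real element of a quotient lifts to a real element when the kernel has odd order; a real element
of odd order lifts to a real element of odd order whatever the kernel.
-/

set_option autoImplicit false

namespace CfsgLib.RealClassGraph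

open Group

variable {G : Type*} [Group G] [Finite G]

/-- If a `2`-element `g` maps a coset `x (K ⊓ N)` to itself through `y ↦ g y⁻¹ g⁻¹` and the
kernel has odd order, some element of the coset is inverted by `g`. -/
theorem exists_inverted_in_coset (N : Subgroup G) [N.Normal] (K : Subgroup G)
    (hodd : Odd (Nat.card (K ⊓ N : Subgroup G))) {g : G} {j : ℕ} (hg : g ^ 2 ^ j = 1)
    (hgK : ∀ k ∈ K, g * k * g⁻¹ ∈ K) {x : G} (hx : x ∈ K)
    (hinv : (QuotientGroup.mk (g * x * g⁻¹) : G ⧸ N) = (QuotientGroup.mk x)⁻¹) :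
    ∃ y ∈ K, (QuotientGroup.mk y : G ⧸ N) = QuotientGroup.mk x ∧ g * y * g⁻¹ = y⁻¹ := by
  classical
  haveI : Fact (Nat.Prime 2) := ⟨Nat.prime_two⟩
  let S := {y : G // y ∈ K ∧ (QuotientGroup.mk y : G ⧸ N) = QuotientGroup.mk x}
  have hmap : ∀ y : S, g * (y.1)⁻¹ * g⁻¹ ∈ K ∧
      (QuotientGroup.mk (g * (y.1)⁻¹ * g⁻¹) : G ⧸ N) = QuotientGroup.mk x := by
    intro y
    refine ⟨hgK _ (inv_mem y.2.1), ?_⟩
    simp only [QuotientGroup.mk_mul, QuotientGroup.mk_inv] at hinv ⊢
    rw [y.2.2]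
    have h := congrArg Inv.inv hinv
    simp only [mul_inv_rev, inv_inv] at h
    rw [← mul_assoc] at h
    exact h
  let f : S → S := fun y => ⟨g * (y.1)⁻¹ * g⁻¹, hmap y⟩
  have hf2 : ∀ y, (f (f y)).1 = g ^ 2 * y.1 * (g ^ 2)⁻¹ := by
    intro y
    simp only [f, sq]
    group
  have hiter : ∀ n y, ((f^[2 * n]) y).1 = g ^ (2 * n) * y.1 * (g ^ (2 * n))⁻¹ := by
    intro n
    induction n with
    | zero => intro y; simp
    | succ n ih =>
      intro y
      rw [show 2 * (n + 1) = 2 * n + 2 by ring, Function.iterate_add_apply, ih]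
      rw [show f^[2] y = f (f y) from rfl, hf2, pow_add]
      group
  have hfix : ∀ y, f^[2 ^ (j + 1)] y = y := by
    intro y
    apply Subtype.ext
    rw [pow_succ', hiter, pow_mul', hg]
    simp
  have hinj : Function.Injective f := by
    intro a b hab
    have h := congrArg Subtype.val hab
    simp only [f] at h
    exact Subtype.ext (inv_injective (mul_left_cancel (mul_right_cancel h)))
  let σ : Equiv.Perm S := Equiv.ofBijective f ⟨hinj, Finite.injective_iff_surjective.mp hinj⟩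
  have hσ : σ ^ 2 ^ (j + 1) = 1 := by
    ext1 y
    rw [Equiv.Perm.coe_pow]
    exact hfix y
  have hcard : Nat.card S = Nat.card (K ⊓ N : Subgroup G) := by
    refine Nat.card_congr
      { toFun := fun y => ⟨x⁻¹ * y.1, Subgroup.mem_inf.mpr ⟨mul_mem (inv_mem hx) y.2.1,
          QuotientGroup.eq.mp y.2.2.symm⟩⟩
        invFun := fun n => ⟨x * n.1, mul_mem hx n.2.1, by
          rw [QuotientGroup.mk_mul, (QuotientGroup.eq_one_iff n.1).mpr n.2.2, mul_one]⟩
        left_inv := fun y => Subtype.ext (by simp)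
        right_inv := fun n => Subtype.ext (by simp) }
  haveI : Fintype S := Fintype.ofFinite S
  have hndvd : ¬ 2 ∣ Fintype.card S := by
    rw [← Nat.card_eq_fintype_card, hcard, ← even_iff_two_dvd]
    exact Nat.not_even_iff_odd.mpr hodd
  obtain ⟨y, hy⟩ := Equiv.Perm.exists_fixed_point_of_prime hndvd hσ
  have hy' : g * (y.1)⁻¹ * g⁻¹ = y.1 := congrArg Subtype.val hy
  refine ⟨y.1, y.2.1, y.2.2, ?_⟩
  have h := congrArg Inv.inv hy'
  simp only [mul_inv_rev, inv_inv, ← mul_assoc] at h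
  exact h

/-- A `2`-element of the group inverting a given real element of a quotient. -/
theorem exists_two_element_lift (N : Subgroup G) [N.Normal] {x : G ⧸ N} (hx : IsConj x x⁻¹) :
    ∃ g : G, (∃ j : ℕ, g ^ 2 ^ j = 1) ∧
      (QuotientGroup.mk g : G ⧸ N) * x * (QuotientGroup.mk g)⁻¹ = x⁻¹ := by
  obtain ⟨c, ⟨i, hi⟩, hc⟩ := RealElements.exists_two_element_inverting hx
  obtain ⟨g, rfl⟩ := QuotientGroup.mk_surjective c
  obtain ⟨j, m, hm, hgm⟩ := Nat.exists_eq_two_pow_mul_odd (orderOf_pos g).ne'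
  obtain ⟨u, hu⟩ := hm
  -- choose an exponent `n = m k` congruent to one modulo `2 ^ i`
  obtain ⟨k, hk⟩ : ∃ k, m * k ≡ 1 [MOD 2 ^ i] := by
    have hcop : Nat.Coprime m (2 ^ i) :=
      (Nat.coprime_two_right.mpr ⟨u, hu⟩).pow_right i
    rcases Nat.eq_zero_or_pos i with h | h
    · exact ⟨0, by rw [h, pow_zero]; exact Nat.modEq_one⟩
    · obtain ⟨k, hk⟩ := Nat.exists_mul_mod_eq_one_of_coprime hcop (Nat.one_lt_two_pow h.ne')
      exact ⟨k, by rw [Nat.ModEq, hk.2, Nat.one_mod_eq_one.mpr (Nat.one_lt_two_pow h.ne').ne']⟩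
  refine ⟨g ^ (m * k), ⟨j, ?_⟩, ?_⟩
  · rw [← pow_mul, show m * k * 2 ^ j = (2 ^ j * m) * k by ring, ← hgm, pow_mul,
      pow_orderOf_eq_one, one_pow]
  · rw [QuotientGroup.mk_pow]
    rwa [show ((g : G ⧸ N)) ^ (m * k) = (g : G ⧸ N) from ?_]
    conv_rhs => rw [← pow_one (g : G ⧸ N)]
    rw [pow_eq_pow_iff_modEq, hi]
    exact hk

/-- A real element of a quotient by a normal subgroup of odd order lifts to a real element. -/
theorem exists_real_lift_of_odd_kernel (N : Subgroup G) [N.Normal] (hN : Odd (Nat.card N))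
    {x : G ⧸ N} (hx : IsConj x x⁻¹) :
    ∃ y : G, (QuotientGroup.mk y : G ⧸ N) = x ∧ IsConj y y⁻¹ := by
  obtain ⟨g, ⟨j, hg⟩, hgx⟩ := exists_two_element_lift N hx
  obtain ⟨a, rfl⟩ := QuotientGroup.mk_surjective x
  have hodd : Odd (Nat.card ((⊤ : Subgroup G) ⊓ N : Subgroup G)) := by rwa [top_inf_eq]
  obtain ⟨y, -, hy, hyi⟩ := exists_inverted_in_coset N ⊤ hodd hg
    (fun k _ => Subgroup.mem_top _) (Subgroup.mem_top a)
    (by simpa using hgx)
  exact ⟨y, hy, isConj_iff.mpr ⟨g, hyi⟩⟩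

/-- A real element of odd order in a quotient lifts to a real element of odd order. -/
theorem exists_real_odd_lift (N : Subgroup G) [N.Normal] {x : G ⧸ N}
    (hx : IsConj x x⁻¹) (hxo : Odd (orderOf x)) :
    ∃ y : G, (QuotientGroup.mk y : G ⧸ N) = x ∧ IsConj y y⁻¹ ∧ Odd (orderOf y) := by
  classical
  haveI : Fact (Nat.Prime 2) := ⟨Nat.prime_two⟩
  obtain ⟨g₀, hg₀⟩ := exists_two_element_lift N hx
  let φ := QuotientGroup.mk' N
  let Φ : Subgroup G → Prop := fun K =>
    K.map φ = Subgroup.zpowers x ∧ ∃ g : G, φ g * x * (φ g)⁻¹ = x⁻¹ ∧ ∀ k ∈ K, g * k * g⁻¹ ∈ K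
  have hne : Φ ((Subgroup.zpowers x).comap φ) := by
    refine ⟨Subgroup.map_comap_eq_self_of_surjective (QuotientGroup.mk'_surjective N) _, g₀, hg₀.2,
      fun k hk => ?_⟩
    rw [Subgroup.mem_comap] at hk ⊢
    obtain ⟨e, he⟩ := Subgroup.mem_zpowers_iff.mp hk
    refine Subgroup.mem_zpowers_iff.mpr ⟨-e, ?_⟩
    rw [map_mul, map_mul, map_inv, ← he, ← conj_zpow]
    show x ^ (-e) = ((QuotientGroup.mk g₀ : G ⧸ N) * x * (QuotientGroup.mk g₀)⁻¹) ^ e
    rw [hg₀.2, inv_zpow, zpow_neg]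
  obtain ⟨K, ⟨hKx, g, hgx, hgK⟩, hmin⟩ :=
    exists_minimal_of_wellFoundedLT Φ ⟨_, hne⟩
  -- every Sylow subgroup of `K` is normal
  have hSyl : ∀ (p : ℕ) (hp : Fact p.Prime) (P : Sylow p K), (P : Subgroup K).Normal := by
    intro p hp P
    let f : K →* Subgroup.zpowers x :=
      { toFun := fun k => ⟨φ k, hKx ▸ Subgroup.mem_map_of_mem φ k.2⟩
        map_one' := Subtype.ext (map_one φ)
        map_mul' := fun a b => Subtype.ext (map_mul φ _ _) }
    have hf : Function.Surjective f := by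
      rintro ⟨z, hz⟩
      rw [← hKx] at hz
      obtain ⟨k, hk, rfl⟩ := hz
      exact ⟨⟨k, hk⟩, rfl⟩
    let P₀ : Subgroup K := (P : Subgroup K)
    let P' : Subgroup G := P₀.map K.subtype
    let c : MulAut K :=
      { toFun := fun k => ⟨g * k * g⁻¹, hgK k k.2⟩
        invFun := fun k => ⟨g⁻¹ * k * g, by
          have hinj : Function.Injective (fun k : K => (⟨g * k * g⁻¹, hgK k k.2⟩ : K)) := by
            intro a b hab
            exact Subtype.ext (mul_left_cancel (mul_right_cancel (congrArg Subtype.val hab)))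
          obtain ⟨a, ha⟩ := Finite.injective_iff_surjective.mp hinj k
          rw [← ha]
          simp [mul_assoc]⟩
        left_inv := fun k => Subtype.ext (by simp [mul_assoc])
        right_inv := fun k => Subtype.ext (by simp [mul_assoc])
        map_mul' := fun a b => Subtype.ext (by simp [mul_assoc]) }
    obtain ⟨m, hm⟩ := MulAction.exists_smul_eq K (c • P) P
    -- `m g` normalizes `P`
    have hnormP : ∀ q ∈ (P : Subgroup K), m * c q * m⁻¹ ∈ (P : Subgroup K) := by
      intro q hq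
      have h1 : m * c q * m⁻¹ ∈ ((m • (c • P) : Sylow p K) : Subgroup K) := by
        rw [Sylow.coe_subgroup_smul, Sylow.pointwise_smul_def]
        exact Subgroup.smul_mem_pointwise_smul _ _ _
          (Subgroup.smul_mem_pointwise_smul q _ _ hq)
      rwa [hm] at h1
    let g' : G := (m : G) * g
    let K' : Subgroup G := (Subgroup.normalizer ((P : Subgroup K) : Set K)).map K.subtype
    have hK'le : K' ≤ K := Subgroup.map_subtype_le _
    have hg'K : ∀ k ∈ K, g' * k * g'⁻¹ ∈ K := by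
      intro k hk
      rw [show g' * k * g'⁻¹ = (m : G) * (g * k * g⁻¹) * (m : G)⁻¹ by simp [g', mul_assoc]]
      exact mul_mem (mul_mem m.2 (hgK k hk)) (inv_mem m.2)
    have hcomm : φ (m : G) * x = x * φ (m : G) := by
      obtain ⟨e, he⟩ := Subgroup.mem_zpowers_iff.mp
        (hKx ▸ Subgroup.mem_map_of_mem φ m.2 : φ (m : G) ∈ Subgroup.zpowers x)
      rw [← he]
      exact (Commute.zpow_self x e).eq
    have hΦ : Φ K' := by
      refine ⟨le_antisymm ((Subgroup.map_mono hK'le).trans_eq hKx) ?_, g', ?_, ?_⟩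
      · -- Frattini
        have hker : ∀ a b : K, (a * b * a⁻¹) * b⁻¹ ∈ f.ker := by
          intro a b
          rw [MonoidHom.mem_ker, map_mul, map_mul, map_mul, map_inv, map_inv,
            mul_comm' (f a) (f b)]
          group
        haveI : ((P : Subgroup K) ⊔ f.ker).Normal := ⟨fun b hb a => by
          have h1 : (a * b * a⁻¹) * b⁻¹ ∈ (P : Subgroup K) ⊔ f.ker :=
            Subgroup.mem_sup_right (hker a b)
          have := mul_mem h1 hb
          rwa [inv_mul_cancel_right] at this⟩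
        have hfr : Subgroup.normalizer (((P : Subgroup K)) : Set K) ⊔
            ((P : Subgroup K) ⊔ f.ker) = ⊤ :=
          Sylow.normalizer_sup_eq_top' P le_sup_left
        rw [← hKx]
        rintro z ⟨k, hk, rfl⟩
        have hk' : (⟨k, hk⟩ : K) ∈ Subgroup.normalizer ((P : Subgroup K) : Set K) ⊔
            ((P : Subgroup K) ⊔ f.ker) := by rw [hfr]; trivial
        rw [← sup_assoc, sup_eq_left.mpr (Subgroup.le_normalizer (H := (P : Subgroup K)))] at hk'
        obtain ⟨a, ha, b, hb, hab⟩ := Subgroup.mem_sup_of_normal_right.mp hk'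
        refine ⟨(a : G), ⟨a, ha, rfl⟩, ?_⟩
        have hb' : φ (b : G) = 1 := congrArg Subtype.val (MonoidHom.mem_ker.mp hb)
        show φ (a : G) = φ k
        rw [show k = (a : G) * (b : G) from (congrArg Subtype.val hab).symm, map_mul, hb', mul_one]
      · have e : φ g' * x * (φ g')⁻¹ = φ (m : G) * (φ g * x * (φ g)⁻¹) * (φ (m : G))⁻¹ := by
          simp [g', mul_assoc]
        rw [e, hgx, eq_comm, eq_mul_inv_iff_mul_eq]
        exact ((Commute.inv_right hcomm).eq).symm
      · rintro _ ⟨k, hk, rfl⟩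
        refine ⟨m * c k * m⁻¹, ?_, by simp [g', c, mul_assoc]⟩
        refine SetLike.mem_coe.mpr (Subgroup.mem_normalizer_fintype fun q hq => ?_)
        -- `q = (m c) q₀ (m c)⁻¹`
        have hinj : Function.Injective (fun q : (P : Subgroup K) =>
            (⟨m * c q * m⁻¹, hnormP q q.2⟩ : (P : Subgroup K))) := by
          intro a b hab
          exact Subtype.ext (c.injective (mul_left_cancel (mul_right_cancel
            (congrArg Subtype.val hab))))
        obtain ⟨q₀, hq₀⟩ := Finite.injective_iff_surjective.mp hinj ⟨q, hq⟩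
        have hq₀' : m * c q₀ * m⁻¹ = q := congrArg Subtype.val hq₀
        rw [← hq₀', show m * c k * m⁻¹ * (m * c q₀ * m⁻¹) * (m * c k * m⁻¹)⁻¹
          = m * c (k * q₀ * k⁻¹) * m⁻¹ by simp [mul_assoc]]
        exact hnormP _ ((Subgroup.mem_normalizer_iff.mp hk q₀).mp q₀.2)
    have hKK' : K ≤ K' := hmin hΦ hK'le
    refine Subgroup.normalizer_eq_top_iff.mp (eq_top_iff.mpr fun k _ => ?_)
    obtain ⟨k', hk', he⟩ := hKK' k.2
    rwa [← Subtype.ext (show (k' : G) = k from he)]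
  -- `K` has odd order
  have hnil : Group.IsNilpotent K :=
    (Group.isNilpotent_of_finite_tfae.out 0 3).mpr fun p hp P => hSyl p hp P
  let P : Sylow 2 K := default
  haveI := hSyl 2 inferInstance P
  obtain ⟨H, hH⟩ := Subgroup.exists_right_complement'_of_coprime (N := (P : Subgroup K))
    P.card_coprime_index
  have hHodd : Odd (Nat.card H) := by
    have := hH.symm.index_eq_card
    rw [← this]
    exact Nat.coprime_two_left.mp
      ((Nat.Prime.coprime_iff_not_dvd Nat.prime_two).mpr P.not_dvd_index)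
  have hPH : ∀ q ∈ (P : Subgroup K), ∀ h ∈ H, h * q = q * h := by
    intro q hq h hh
    have hh2 : (orderOf h).Coprime (orderOf q) := by
      obtain ⟨i, hi⟩ := IsPGroup.iff_orderOf.mp P.2 ⟨q, hq⟩
      rw [Subgroup.orderOf_mk] at hi
      rw [hi]
      exact (Nat.coprime_two_right.mpr (hHodd.of_dvd_nat (H.orderOf_dvd_natCard hh))).pow_right i
    exact (ValueOrder.commute_of_coprime h q hh2).eq
  haveI hHn : H.Normal := ⟨fun h hh k => by
    have hk : k ∈ (P : Subgroup K) ⊔ H := by rw [hH.sup_eq_top]; trivial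
    obtain ⟨q, hq, h', hh', rfl⟩ := Subgroup.mem_sup_of_normal_left.mp hk
    have hx' : h' * h * h'⁻¹ ∈ H := mul_mem (mul_mem hh' hh) (inv_mem hh')
    have hc : q * (h' * h * h'⁻¹) * q⁻¹ = h' * h * h'⁻¹ :=
      mul_inv_eq_iff_eq_mul.mpr (hPH q hq _ hx').symm
    rw [show q * h' * h * (q * h')⁻¹ = q * (h' * h * h'⁻¹) * q⁻¹ by simp [mul_assoc], hc]
    exact hx'⟩
  have hHidx : H.index = Nat.card (P : Subgroup K) := hH.index_eq_card
  obtain ⟨a, ha⟩ := IsPGroup.iff_card.mp P.2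
  let K₂ : Subgroup G := Subgroup.closure ((fun k : G => k ^ 2 ^ a) '' K)
  have hK₂le : K₂ ≤ K := by
    rw [Subgroup.closure_le]
    rintro _ ⟨k, hk, rfl⟩
    exact K.pow_mem hk _
  have hK₂H : K₂ ≤ H.map K.subtype := by
    rw [Subgroup.closure_le]
    rintro _ ⟨k, hk, rfl⟩
    refine ⟨⟨k, hk⟩ ^ 2 ^ a, ?_, rfl⟩
    show (⟨k, hk⟩ : K) ^ 2 ^ a ∈ H
    rw [← ha, ← hHidx]
    exact Subgroup.pow_index_mem H _
  have hΦ₂ : Φ K₂ := by
    refine ⟨le_antisymm ((Subgroup.map_mono hK₂le).trans_eq hKx) ?_, g, hgx, ?_⟩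
    · obtain ⟨k, hk, hkx⟩ : x ∈ K.map φ := hKx ▸ Subgroup.mem_zpowers x
      rw [Subgroup.zpowers_le]
      have hmem : x ^ 2 ^ a ∈ K₂.map φ :=
        ⟨k ^ 2 ^ a, Subgroup.subset_closure ⟨k, hk, rfl⟩, by rw [map_pow, hkx]⟩
      have hcop : (2 ^ a).Coprime (orderOf x) := (Nat.coprime_two_left.mpr hxo).pow_left a
      obtain h1 | h1 : orderOf x = 1 ∨ 1 < orderOf x := by have := orderOf_pos x; omega
      · rw [orderOf_eq_one_iff] at h1
        subst h1
        exact one_mem _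
      obtain ⟨e, he⟩ := Nat.exists_mul_mod_eq_one_of_coprime hcop h1
      have hxe : (x ^ 2 ^ a) ^ e = x := by
        rw [← pow_mul]
        conv_rhs => rw [← pow_one x]
        rw [pow_eq_pow_iff_modEq, Nat.ModEq, he.2, Nat.mod_eq_of_lt h1]
      rw [← hxe]
      exact pow_mem hmem e
    · intro k hk
      induction hk using Subgroup.closure_induction with
      | mem z hz =>
        obtain ⟨k, hk, rfl⟩ := hz
        exact Subgroup.subset_closure ⟨g * k * g⁻¹, hgK k hk, conj_pow⟩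
      | one => simp
      | mul a b _ _ iha ihb =>
        rw [show g * (a * b) * g⁻¹ = (g * a * g⁻¹) * (g * b * g⁻¹) by simp [mul_assoc]]
        exact mul_mem iha ihb
      | inv a _ iha =>
        rw [← conj_inv]
        exact inv_mem iha
  have hKeq : K ≤ H.map K.subtype := (hmin hΦ₂ hK₂le).trans hK₂H
  have hKodd : Odd (Nat.card K) := by
    refine hHodd.of_dvd_nat ?_
    rw [← Subgroup.card_map_of_injective (K := H) K.subtype_injective]
    exact Subgroup.card_dvd_of_le hKeq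
  obtain ⟨k₀, hk₀, hk₀x⟩ : x ∈ K.map φ := hKx ▸ Subgroup.mem_zpowers x
  -- a power of `g` of `2`-power order
  obtain ⟨j, u, hu, hgu⟩ := Nat.exists_eq_two_pow_mul_odd (orderOf_pos g).ne'
  obtain ⟨v, rfl⟩ := hu
  have hg2 : (g ^ (2 * v + 1)) ^ 2 ^ j = 1 := by
    rw [← pow_mul, mul_comm, ← hgu, pow_orderOf_eq_one]
  have hgK' : ∀ n, ∀ k ∈ K, g ^ n * k * (g ^ n)⁻¹ ∈ K := by
    intro n
    induction n with
    | zero => intro k hk; simpa using hk
    | succ n ih =>
      intro k hk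
      rw [show g ^ (n + 1) * k * (g ^ (n + 1))⁻¹ = g ^ n * (g * k * g⁻¹) * (g ^ n)⁻¹ by
        simp [pow_succ, mul_assoc]]
      exact ih _ (hgK k hk)
  have hgx' : φ (g ^ (2 * v + 1)) * x * (φ (g ^ (2 * v + 1)))⁻¹ = x⁻¹ := by
    have h2 : Commute ((φ g) ^ 2) x := by
      refine mul_inv_eq_iff_eq_mul.mp ?_
      rw [show φ g ^ 2 * x * (φ g ^ 2)⁻¹ = φ g * (φ g * x * (φ g)⁻¹) * (φ g)⁻¹ by
        simp [sq, mul_assoc], hgx, ← conj_inv, hgx, inv_inv]
    rw [map_pow, pow_succ', pow_mul]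
    rw [show φ g * (φ g ^ 2) ^ v * x * (φ g * (φ g ^ 2) ^ v)⁻¹ =
      φ g * ((φ g ^ 2) ^ v * x * ((φ g ^ 2) ^ v)⁻¹) * (φ g)⁻¹ by simp [mul_assoc],
      (h2.pow_left v).eq, mul_inv_cancel_right, hgx]
  obtain ⟨y, hyK, hy, hyi⟩ := exists_inverted_in_coset N K
    (hKodd.of_dvd_nat (Subgroup.card_dvd_of_le inf_le_left)) hg2 (hgK' _) hk₀ (by
      show φ _ = (φ k₀)⁻¹
      rw [map_mul, map_mul, map_inv, hk₀x]
      exact hgx')
  exact ⟨y, hy.trans hk₀x, isConj_iff.mpr ⟨_, hyi⟩,
    hKodd.of_dvd_nat (K.orderOf_dvd_natCard hyK)⟩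

end CfsgLib.RealClassGraph
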