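import Cfsg.Agent.Small.BaerSuzuki
import Cfsg.Agent.Small.Dihedral
import Cfsg.Agent.S0205
import Mathlib.FieldTheory.Finite.Basic
import Mathlib.RingTheory.IntegralDomain
import Mathlib.GroupTheory.Nilpotent
import Mathlib.Algebra.Ring.Subring.Basic

/-!
# Linear groups in which strongly real elements of odd order factorize all orbits

Let `Q` act faithfully and irreducibly on an elementary abelian `2`-group `M`, with all orbits on
`M \ 0` of odd size, and suppose that for every strongly real element `z ≠ 1` of odd order the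
centralizer of `z` is transitive on every orbit.  Then `Q` is solvable.
-/

set_option autoImplicit false

namespace CfsgLib.RealClassGraph

open Pointwise

theorem end_mul_app {A : Type*} [AddCommGroup A] (f g : AddMonoid.End A) (a : A) :
    (f * g) a = f (g a) := rfl

section Basic

variable {Q : Type*} [Group Q]

/-- A nontrivial element of odd order inverted by an involution. -/
def IsSR (z : Q) : Prop :=
  z ≠ 1 ∧ Odd (orderOf z) ∧ ∃ b : Q, orderOf b = 2 ∧ b * z * b⁻¹ = z⁻¹

theorem IsSR.sq_ne_one {z : Q} (h : IsSR z) : z ^ 2 ≠ 1 := fun e => by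
  refine h.1 (orderOf_eq_one_iff.mp ?_)
  exact (Nat.Prime.eq_one_or_self_of_dvd Nat.prime_two _ (orderOf_dvd_of_pow_eq_one e)).resolve_right
    fun e2 => by have h2 := h.2.1; rw [e2] at h2; exact absurd h2 (by decide)

theorem IsSR.ne_inv {z : Q} (h : IsSR z) : z⁻¹ ≠ z := fun e =>
  h.sq_ne_one (by rw [sq]; nth_rw 1 [← e]; exact inv_mul_cancel z)

theorem invol_mul {b : Q} (hb : orderOf b = 2) : b * b = 1 := Small.mul_self_of_orderOf_two hb

/-- An involution not in a normal `2`-subgroup inverts a nontrivial element of odd order. -/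
theorem exists_normal_two_of_no_inverted [Finite Q] {t : Q} (ht : orderOf t = 2)
    (h : ∀ g : Q, ∀ z ∈ Subgroup.zpowers (t * (g * t * g⁻¹)), z ≠ 1 → Odd (orderOf z) →
      t * z * t⁻¹ = z⁻¹ → False) :
    ∃ N : Subgroup Q, N.Normal ∧ IsPGroup 2 N ∧ t ∈ N := by
  haveI : Fact (Nat.Prime 2) := ⟨Nat.prime_two⟩
  refine Small.baerSuzuki_elem (p := 2) t fun g => ?_
  have hs : orderOf (g * t * g⁻¹) = 2 := by rw [Small.orderOf_conj_eq, ht]
  have hg := h g
  generalize g * t * g⁻¹ = s at hs hg ⊢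
  rcases eq_or_ne t s with hts | hts
  · rw [← hts]
    refine IsPGroup.of_card (n := 1) ?_
    rw [Set.pair_eq_singleton, ← Subgroup.zpowers_eq_closure, Nat.card_zpowers, ht, pow_one]
  obtain ⟨j, m, hm, hjm⟩ := Nat.exists_eq_two_pow_mul_odd (orderOf_pos (t * s)).ne'
  have hu : orderOf ((t * s) ^ 2 ^ j) = m := by
    rw [orderOf_pow_of_dvd (by positivity) ⟨m, hjm⟩, hjm, Nat.mul_div_cancel_left _ (by positivity)]
  have hone : (t * s) ^ 2 ^ j = 1 := by
    by_contra hne
    exact hg _ (Subgroup.npow_mem_zpowers _ _) hne (hu ▸ hm)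
      (Small.invol_conj_pow (Small.invol_conj_mul ht hs) _)
  obtain ⟨i, -, hi⟩ := (Nat.dvd_prime_pow Nat.prime_two).mp (orderOf_dvd_of_pow_eq_one hone)
  refine IsPGroup.of_card (n := i + 1) ?_
  rw [Small.card_closure_pair_invol ht hs hts, hi, pow_succ']

/-- Two involutory automorphisms of a finite domain that move something are equal. -/
theorem autos_eq {L : Type*} [CommRing L] [IsDomain L] [Finite L] (σ τ : L ≃+* L)
    (hσ : ∀ a, σ (σ a) = a) (hτ : ∀ a, τ (τ a) = a) (hσ1 : ∃ a, σ a ≠ a) (hτ1 : ∃ a, τ a ≠ a) :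
    σ = τ := by
  classical
  letI : Field L := (Finite.isField_of_domain L).toField
  haveI : Fact (Nat.Prime (ringChar L)) := ⟨CharP.char_is_prime L (ringChar L)⟩
  letI : Algebra (ZMod (ringChar L)) L := ZMod.algebra L (ringChar L)
  let lift : (L ≃+* L) → (L ≃ₐ[ZMod (ringChar L)] L) := fun f =>
    AlgEquiv.ofRingEquiv (f := f) fun r => RingHom.congr_fun
      (Subsingleton.elim (f.toRingHom.comp (algebraMap (ZMod (ringChar L)) L)) (algebraMap _ _)) r
  haveI : Fintype (L ≃ₐ[ZMod (ringChar L)] L) := Fintype.ofFinite _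
  have hne : ∀ f : L ≃+* L, (∃ a, f a ≠ a) → lift f ≠ 1 := by
    rintro f ⟨a, ha⟩ e
    exact ha (DFunLike.congr_fun e a)
  by_contra hστ
  have hsub : ({1, lift σ, lift τ} : Finset (L ≃ₐ[ZMod (ringChar L)] L)) ⊆
      Finset.univ.filter (fun g => g ^ 2 = 1) := by
    intro g hg
    simp only [Finset.mem_insert, Finset.mem_singleton] at hg
    simp only [Finset.mem_filter, Finset.mem_univ, true_and]
    rcases hg with rfl | rfl | rfl
    · simp
    · ext a; exact hσ a
    · ext a; exact hτ a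
  have h3 : ({1, lift σ, lift τ} : Finset (L ≃ₐ[ZMod (ringChar L)] L)).card = 3 := by
    rw [Finset.card_eq_three]
    refine ⟨1, lift σ, lift τ, (hne σ hσ1).symm, (hne τ hτ1).symm, fun e => ?_, rfl⟩
    exact hστ (RingEquiv.ext fun a => DFunLike.congr_fun e a)
  have := (Finset.card_le_card hsub).trans
    (IsCyclic.card_pow_eq_one_le (α := L ≃ₐ[ZMod (ringChar L)] L) two_pos)
  omega

end Basic

section Action

variable (Q M : Type*) [Group Q] [AddCommGroup M] [DistribMulAction Q M]

/-- The hypotheses of the linear situation. -/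
structure Good : Prop where
  exp : ∀ m : M, m + m = 0
  nt : ∃ m : M, m ≠ 0
  faithful : ∀ q : Q, (∀ m : M, q • m = m) → q = 1
  irr : ∀ A : AddSubgroup M, (∀ q : Q, ∀ a ∈ A, q • a ∈ A) → A = ⊥ ∨ A = ⊤
  odd : ∀ m : M, m ≠ 0 → Odd (Nat.card (MulAction.orbit Q m))
  trans : ∀ z : Q, IsSR z → ∀ (q : Q) (m : M), ∃ c : Q, Commute c z ∧ c • m = q • m

/-- The fixed points of an element. -/
def Fix (b : Q) : Set M := {m | b • m = m}

variable {Q M}

theorem smul_Fix (g b : Q) : g • Fix Q M b = Fix Q M (g * b * g⁻¹) := by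
  ext m
  rw [Set.mem_smul_set_iff_inv_smul_mem]
  simp only [Fix, Set.mem_setOf_eq]
  rw [mul_smul, mul_smul, eq_inv_smul_iff]

/-- The endomorphism of an element. -/
abbrev e : Q →* AddMonoid.End M := DistribMulAction.toAddMonoidEnd Q M

theorem e_injective (h : Good Q M) : Function.Injective (e : Q → AddMonoid.End M) := by
  intro a b hab
  refine inv_mul_eq_one.mp (h.faithful _ fun m => ?_)
  have h1 : a • m = b • m := DFunLike.congr_fun hab m
  rw [mul_smul, ← h1, inv_smul_smul]

variable [Finite Q] [Finite M]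

/-- Strongly real elements of odd order act without fixed points. -/
theorem fpf (h : Good Q M) {z : Q} (hz : IsSR z) {m : M} (hm : z • m = m) : m = 0 := by
  let A : AddSubgroup M :=
    { carrier := {m | z • m = m}
      zero_mem' := smul_zero z
      add_mem' := fun {a b} ha hb => by
        simp only [Set.mem_setOf_eq] at ha hb ⊢
        rw [smul_add, ha, hb]
      neg_mem' := fun {a} ha => by
        simp only [Set.mem_setOf_eq] at ha ⊢
        rw [smul_neg, ha] }
  rcases h.irr A (fun q a (ha : z • a = a) => by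
    obtain ⟨c, hc, hca⟩ := h.trans z hz q a
    show z • q • a = q • a
    rw [← hca, ← mul_smul, ← hc.eq, mul_smul, ha]) with hA | hA
  · have : m ∈ A := hm
    rw [hA] at this
    exact this
  · exact absurd (h.faithful z fun a => (show a ∈ A by rw [hA]; trivial)) hz.1

/-- A commutative group of strongly real elements is cyclic. -/
theorem isCyclic_of_SR (h : Good Q M) (A : Subgroup Q)
    (hcomm : ∀ a ∈ A, ∀ b ∈ A, a * b = b * a) (hSR : ∀ a ∈ A, a ≠ 1 → IsSR a) : IsCyclic A := by
  classical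
  let Inv : AddSubgroup M → Prop := fun W => W ≠ ⊥ ∧ ∀ a ∈ A, ∀ w ∈ W, a • w ∈ W
  obtain ⟨m₀, hm₀⟩ := h.nt
  obtain ⟨W, ⟨hW, hWinv⟩, hmin⟩ := exists_minimal_of_wellFoundedLT Inv
    ⟨⊤, fun e => hm₀ (by simpa [e] using AddSubgroup.mem_top m₀), fun _ _ _ _ => trivial⟩
  let ρ : A →* AddMonoid.End W :=
    { toFun := fun a =>
        { toFun := fun w => ⟨(a : Q) • (w : M), hWinv a a.2 w w.2⟩
          map_zero' := Subtype.ext (smul_zero _)
          map_add' := fun u v => Subtype.ext (smul_add _ _ _) }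
      map_one' := AddMonoidHom.ext fun w => Subtype.ext (one_smul Q (w : M))
      map_mul' := fun a b => AddMonoidHom.ext fun w => Subtype.ext (mul_smul (a : Q) b (w : M)) }
  haveI : Finite (AddMonoid.End W) :=
    Finite.of_injective (fun f : AddMonoid.End W => (f : W → W)) DFunLike.coe_injective
  let R : Subring (AddMonoid.End W) := Subring.closure (Set.range ρ)
  have hgen : ∀ u ∈ Set.range ρ, ∀ v ∈ Set.range ρ, u * v = v * u := by
    rintro _ ⟨a, rfl⟩ _ ⟨b, rfl⟩
    rw [← map_mul, ← map_mul, show a * b = b * a from Subtype.ext (hcomm a a.2 b b.2)]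
  haveI := Subring.isMulCommutative_closure hgen
  letI : CommRing R := { (inferInstance : Ring R) with mul_comm := fun u v => mul_comm' u v }
  have hinj : ∀ f : R, f ≠ 0 → Function.Injective (f : AddMonoid.End W) := by
    intro f hf
    have hcom : ∀ a : A, ρ a * (f : AddMonoid.End W) = (f : AddMonoid.End W) * ρ a := fun a =>
      congrArg Subtype.val (mul_comm (⟨ρ a, Subring.subset_closure ⟨a, rfl⟩⟩ : R) f)
    let K : AddSubgroup M := ((f : AddMonoid.End W) : W →+ W).ker.map W.subtype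
    refine (injective_iff_map_eq_zero _).mpr fun w hw => ?_
    by_contra hw0
    have hK : Inv K := by
      refine ⟨fun e => hw0 ?_, ?_⟩
      · have : (w : M) ∈ K := ⟨w, hw, rfl⟩
        rw [e] at this
        exact Subtype.ext this
      · rintro a ha _ ⟨u, hu, rfl⟩
        refine ⟨ρ ⟨a, ha⟩ u, ?_, rfl⟩
        have hu' : (f : AddMonoid.End W) u = 0 := hu
        show (f : AddMonoid.End W) (ρ ⟨a, ha⟩ u) = 0
        rw [← end_mul_app, ← hcom, end_mul_app, hu', map_zero]
    have hWK := hmin hK (AddSubgroup.map_subtype_le _)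
    refine hf (Subtype.ext (AddMonoidHom.ext fun u => ?_))
    obtain ⟨u', hu', huu⟩ := hWK u.2
    have : u' = u := Subtype.ext huu
    rw [this] at hu'
    exact hu'
  haveI : NoZeroDivisors R := ⟨fun {f g} hfg => by
    by_contra hc
    push Not at hc
    refine hc.2 (Subtype.ext (AddMonoidHom.ext fun w => hinj f hc.1 ?_))
    show (f : AddMonoid.End W) ((g : AddMonoid.End W) w) = (f : AddMonoid.End W) 0
    rw [map_zero, ← end_mul_app, ← Subring.coe_mul, hfg]
    rfl⟩
  haveI : Nontrivial R := by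
    obtain ⟨w, hwW, hw0⟩ : ∃ w ∈ W, w ≠ (0 : M) := by
      by_contra hc
      push Not at hc
      exact hW ((AddSubgroup.eq_bot_iff_forall W).mpr hc)
    refine ⟨0, 1, fun e => hw0 ?_⟩
    have := DFunLike.congr_fun (congrArg Subtype.val e) ⟨w, hwW⟩
    exact (congrArg Subtype.val this).symm
  haveI : IsDomain R := NoZeroDivisors.to_isDomain R
  refine isCyclic_of_injective_ringHom (R := R)
    ((ρ.codRestrict R.toSubmonoid fun a => Subring.subset_closure ⟨a, rfl⟩) : A →* R) ?_
  intro a b hab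
  have hab' : ρ a = ρ b := congrArg Subtype.val hab
  obtain ⟨w, hwW, hw0⟩ : ∃ w ∈ W, w ≠ (0 : M) := by
    by_contra hc
    push Not at hc
    exact hW ((AddSubgroup.eq_bot_iff_forall W).mpr hc)
  by_contra hne
  refine hw0 (fpf h (hSR ((a : Q)⁻¹ * b) (mul_mem (inv_mem a.2) b.2) fun e => hne ?_) ?_)
  · exact Subtype.ext (inv_mul_eq_one.mp e)
  · have h1 := congrArg Subtype.val (DFunLike.congr_fun hab' ⟨w, hwW⟩)
    have : (a : Q) • w = (b : Q) • w := h1
    rw [mul_smul, ← this, inv_smul_smul]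

/-- The group generated by two commuting elements of odd order inverted by `b`. -/
theorem exists_generator (h : Good Q M) {b x z : Q} (hb : orderOf b = 2) (hxz : Commute x z)
    (hx : b * x * b⁻¹ = x⁻¹) (hz : b * z * b⁻¹ = z⁻¹) (hxo : Odd (orderOf x))
    (hzo : Odd (orderOf z)) :
    ∃ w : Q, x ∈ Subgroup.zpowers w ∧ z ∈ Subgroup.zpowers w ∧ (w ≠ 1 → IsSR w) ∧
      Odd (orderOf w) ∧ b * w * b⁻¹ = w⁻¹ ∧ w ∈ Subgroup.closure ({x, z} : Set Q) := by
  let A := Subgroup.closure ({x, z} : Set Q)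
  have hgen : ∀ u ∈ ({x, z} : Set Q), ∀ v ∈ ({x, z} : Set Q), u * v = v * u := by
    rintro u (rfl | rfl) v (rfl | rfl)
    exacts [rfl, hxz.eq, hxz.eq.symm, rfl]
  haveI : IsMulCommutative A := Subgroup.isMulCommutative_closure hgen
  have hcomm : ∀ a ∈ A, ∀ c ∈ A, a * c = c * a := fun a ha c hc =>
    congrArg Subtype.val (mul_comm' (⟨a, ha⟩ : A) ⟨c, hc⟩)
  have hboth : ∀ a ∈ A, b * a * b⁻¹ = a⁻¹ ∧ Odd (orderOf a) := by
    intro a ha
    induction ha using Subgroup.closure_induction with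
    | mem u hu =>
      rcases hu with rfl | rfl
      exacts [⟨hx, hxo⟩, ⟨hz, hzo⟩]
    | one => simp
    | mul u v hu hv ihu ihv =>
      have hc : Commute u v := hcomm u hu v hv
      refine ⟨?_, (ihu.2.mul ihv.2).of_dvd_nat hc.orderOf_mul_dvd_mul_orderOf⟩
      rw [show b * (u * v) * b⁻¹ = (b * u * b⁻¹) * (b * v * b⁻¹) by simp [mul_assoc], ihu.1, ihv.1,
        ← mul_inv_rev, hc.eq]
    | inv u _ ih => exact ⟨by rw [← conj_inv, ih.1], by rw [orderOf_inv]; exact ih.2⟩
  have hSR : ∀ a ∈ A, a ≠ 1 → IsSR a := fun a ha hne =>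
    ⟨hne, (hboth a ha).2, b, hb, (hboth a ha).1⟩
  haveI := isCyclic_of_SR h A hcomm hSR
  obtain ⟨w, hw⟩ := IsCyclic.exists_generator (α := A)
  have key : ∀ a ∈ A, a ∈ Subgroup.zpowers (w : Q) := fun a ha => by
    obtain ⟨k, hk⟩ := Subgroup.mem_zpowers_iff.mp (hw ⟨a, ha⟩)
    exact Subgroup.mem_zpowers_iff.mpr ⟨k, congrArg Subtype.val hk⟩
  exact ⟨w, key x (Subgroup.subset_closure (Set.mem_insert _ _)),
    key z (Subgroup.subset_closure (Set.mem_insert_of_mem _ rfl)), hSR w w.2, (hboth w w.2).2,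
    (hboth w w.2).1, w.2⟩

/-- The Galois argument: a strongly real element cannot be split by a second involution. -/
theorem no_split (h : Good Q M) {a v x z : Q} (ha : orderOf a = 2) (hv : orderOf v = 2)
    (hav : Commute a v) (hx1 : IsSR x) (hz1 : z ≠ 1) (hzo : Odd (orderOf z)) (hxz : Commute x z)
    (hax : a * x * a⁻¹ = x⁻¹) (hvx : Commute v x) (haz : Commute a z)
    (hvz : v * z * v⁻¹ = z⁻¹) : False := by
  classical
  have hne : a ≠ v := fun e => hx1.ne_inv (by rw [← hax, e, hvx.eq, mul_inv_cancel_right])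
  have hb : orderOf (a * v) = 2 := by
    refine orderOf_eq_prime ?_ fun e => hne ?_
    · rw [sq, ← mul_assoc, mul_assoc a v a, ← hav.eq, ← mul_assoc a a v, invol_mul ha, one_mul,
        invol_mul hv]
    · rw [mul_eq_one_iff_eq_inv.mp e, Small.inv_eq_self_of_orderOf_two hv]
  have hbx : (a * v) * x * (a * v)⁻¹ = x⁻¹ := by
    rw [show (a * v) * x * (a * v)⁻¹ = a * (v * x * v⁻¹) * a⁻¹ by simp [mul_assoc], hvx.eq,
      mul_inv_cancel_right, hax]
  have hbz : (a * v) * z * (a * v)⁻¹ = z⁻¹ := by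
    rw [show (a * v) * z * (a * v)⁻¹ = a * (v * z * v⁻¹) * a⁻¹ by simp [mul_assoc], hvz,
      haz.inv_right.eq, mul_inv_cancel_right]
  obtain ⟨w, hxw, hzw, hwSR, -, hbw, hwmem⟩ :=
    exists_generator h hb hxz hbx hbz hx1.2.1 hzo
  have hw1 : w ≠ 1 := fun e => by
    rw [e, Subgroup.zpowers_one_eq_bot, Subgroup.mem_bot] at hxw
    exact hx1.1 hxw
  have hw := hwSR hw1
  have haw : a * w * a⁻¹ ∈ Subgroup.zpowers w := by
    suffices ∀ u ∈ Subgroup.closure ({x, z} : Set Q), a * u * a⁻¹ ∈ Subgroup.zpowers w from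
      this w hwmem
    intro u hu
    induction hu using Subgroup.closure_induction with
    | mem u hu =>
      rcases hu with rfl | hu
      · rw [hax]; exact inv_mem hxw
      · rw [Set.mem_singleton_iff.mp hu, haz.eq, mul_inv_cancel_right]; exact hzw
    | one => simp
    | mul u u' _ _ ihu ihu' =>
      rw [show a * (u * u') * a⁻¹ = (a * u * a⁻¹) * (a * u' * a⁻¹) by simp [mul_assoc]]
      exact mul_mem ihu ihu'
    | inv u _ ih => rw [← conj_inv]; exact inv_mem ih
  haveI : Finite (AddMonoid.End M) :=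
    Finite.of_injective (fun f : AddMonoid.End M => (f : M → M)) DFunLike.coe_injective
  let R : Subring (AddMonoid.End M) := Subring.closure {e w}
  haveI := Subring.isMulCommutative_closure (s := ({e w} : Set (AddMonoid.End M)))
    (by rintro _ rfl _ rfl; rfl)
  letI : CommRing R := { (inferInstance : Ring R) with mul_comm := fun u v => mul_comm' u v }
  have hinj : ∀ f : R, f ≠ 0 → Function.Injective (f : AddMonoid.End M) := by
    intro f hf
    have hcom : ∀ c : Q, Commute c w → e c * (f : AddMonoid.End M) = (f : AddMonoid.End M) * e c := by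
      intro c hc
      have : R ≤ Subring.centralizer {e c} := Subring.closure_le.mpr (by
        rintro _ rfl
        rw [SetLike.mem_coe, Subring.mem_centralizer_iff]
        rintro _ rfl
        rw [← map_mul, ← map_mul, hc.eq])
      exact Subring.mem_centralizer_iff.mp (this f.2) _ rfl
    refine (injective_iff_map_eq_zero _).mpr fun m hm => ?_
    let K : AddSubgroup M := ((f : AddMonoid.End M) : M →+ M).ker
    rcases h.irr K (fun q u (hu : (f : AddMonoid.End M) u = 0) => by
      obtain ⟨c, hc, hcu⟩ := h.trans w hw q u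
      show (f : AddMonoid.End M) (q • u) = 0
      rw [← hcu, show c • u = e c u from rfl, ← end_mul_app, ← hcom c hc,
        end_mul_app, hu, map_zero]) with hK | hK
    · have : m ∈ K := hm
      rw [hK] at this
      exact this
    · refine absurd (Subtype.ext (AddMonoidHom.ext fun u => ?_)) hf
      exact (show u ∈ K by rw [hK]; trivial)
  haveI : NoZeroDivisors R := ⟨fun {f g} hfg => by
    by_contra hc
    push Not at hc
    refine hc.2 (Subtype.ext (AddMonoidHom.ext fun m => hinj f hc.1 ?_))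
    show (f : AddMonoid.End M) ((g : AddMonoid.End M) m) = (f : AddMonoid.End M) 0
    rw [map_zero, ← end_mul_app, ← Subring.coe_mul, hfg]
    rfl⟩
  haveI : Nontrivial R := by
    obtain ⟨m₀, hm₀⟩ := h.nt
    refine ⟨0, 1, fun e' => hm₀ ?_⟩
    exact (DFunLike.congr_fun (congrArg Subtype.val e') m₀).symm
  haveI : IsDomain R := NoZeroDivisors.to_isDomain R
  have hpow : ∀ y ∈ Subgroup.zpowers w, e y ∈ R := by
    intro y hy
    obtain ⟨n, rfl⟩ := mem_powers_iff_mem_zpowers.mpr hy
    show e (w ^ n) ∈ R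
    rw [map_pow]
    exact pow_mem (Subring.subset_closure (Set.mem_singleton _)) n
  have conj : ∀ c : Q, orderOf c = 2 → c * w * c⁻¹ ∈ Subgroup.zpowers w →
      ∃ σ : R ≃+* R, (∀ f, σ (σ f) = f) ∧ ∀ y (hy : y ∈ Subgroup.zpowers w),
        (σ ⟨e y, hpow y hy⟩ : AddMonoid.End M) = e (c * y * c⁻¹) := by
    intro c hc hcw
    have hcc : e c * e c = (1 : AddMonoid.End M) := by rw [← map_mul, invol_mul hc, map_one]
    have hmem : ∀ f ∈ R, e c * f * e c ∈ R := by
      intro f hf
      induction hf using Subring.closure_induction with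
      | mem u hu =>
        rw [Set.mem_singleton_iff] at hu
        rw [hu, ← map_mul, ← map_mul]
        have := hpow _ hcw
        rwa [Small.inv_eq_self_of_orderOf_two hc] at this
      | zero => rw [mul_zero, zero_mul]; exact zero_mem _
      | one => rw [mul_one, hcc]; exact one_mem _
      | add u u' _ _ ihu ihu' => rw [mul_add, add_mul]; exact add_mem ihu ihu'
      | neg u _ ih => rw [mul_neg, neg_mul]; exact neg_mem ih
      | mul u u' _ _ ihu ihu' =>
        have : e c * (u * u') * e c = (e c * u * e c) * (e c * u' * e c) := by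
          simp only [mul_assoc]
          rw [← mul_assoc (e c) (e c), hcc, one_mul]
        rw [this]
        exact mul_mem ihu ihu'
    have hinv : ∀ f : AddMonoid.End M, e c * (e c * f * e c) * e c = f := fun f => by
      simp only [mul_assoc, hcc, mul_one]
      rw [← mul_assoc, hcc, one_mul]
    refine ⟨
      { toFun := fun f => ⟨e c * (f : AddMonoid.End M) * e c, hmem f f.2⟩
        invFun := fun f => ⟨e c * (f : AddMonoid.End M) * e c, hmem f f.2⟩
        left_inv := fun f => Subtype.ext (hinv f)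
        right_inv := fun f => Subtype.ext (hinv f)
        map_mul' := fun f g => Subtype.ext (by
          show e c * ((f : AddMonoid.End M) * (g : AddMonoid.End M)) * e c =
            (e c * (f : AddMonoid.End M) * e c) * (e c * (g : AddMonoid.End M) * e c)
          simp only [mul_assoc]
          rw [← mul_assoc (e c) (e c), hcc, one_mul])
        map_add' := fun f g => Subtype.ext (by
          show e c * ((f : AddMonoid.End M) + (g : AddMonoid.End M)) * e c =
            e c * (f : AddMonoid.End M) * e c + e c * (g : AddMonoid.End M) * e c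
          rw [mul_add, add_mul]) }, fun f => Subtype.ext (hinv f), fun y hy => ?_⟩
    show e c * e y * e c = e (c * y * c⁻¹)
    rw [map_mul, map_mul, Small.inv_eq_self_of_orderOf_two hc]
  obtain ⟨σ, hσ, hσe⟩ := conj a ha haw
  obtain ⟨τ, hτ, hτe⟩ := conj (a * v) hb (by rw [hbw]; exact inv_mem (Subgroup.mem_zpowers w))
  have hmove : ∀ (ρ : R ≃+* R) (c : Q), c * x * c⁻¹ = x⁻¹ →
      (∀ y (hy : y ∈ Subgroup.zpowers w),
        (ρ ⟨e y, hpow y hy⟩ : AddMonoid.End M) = e (c * y * c⁻¹)) → ∃ f, ρ f ≠ f := by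
    intro ρ c hc hρ
    refine ⟨⟨e x, hpow x hxw⟩, fun e' => hx1.ne_inv (e_injective h ?_)⟩
    have := congrArg Subtype.val e'
    rw [hρ x hxw, hc] at this
    exact this
  have heq := autos_eq σ τ hσ hτ (hmove σ a hax hσe) (hmove τ (a * v) hbx hτe)
  have hzz : (e z : AddMonoid.End M) = e z⁻¹ := by
    have h1 := hσe z hzw
    rw [heq, hτe z hzw, hbz, haz.eq, mul_inv_cancel_right] at h1
    exact h1.symm
  exact IsSR.ne_inv (z := z) ⟨hz1, hzo, a * v, hb, hbz⟩ (e_injective h hzz.symm)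

/-- A `2`-group normalized by a group transitive on a set of odd size fixes it pointwise. -/
theorem fix_of_two_group {L N : Subgroup Q} (hN : IsPGroup 2 N)
    (hLN : L ≤ Subgroup.normalizer (N : Set Q)) (O : Set M) (hO : Odd (Nat.card O))
    (hinv : ∀ n ∈ N, ∀ m ∈ O, n • m ∈ O)
    (htr : ∀ m₁ ∈ O, ∀ m₂ ∈ O, ∃ l ∈ L, l • m₁ = m₂) :
    ∀ n ∈ N, ∀ m ∈ O, n • m = m := by
  haveI : Fact (Nat.Prime 2) := ⟨Nat.prime_two⟩
  letI : MulAction N O :=
    { smul := fun n m => ⟨(n : Q) • (m : M), hinv n n.2 m m.2⟩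
      one_smul := fun m => Subtype.ext (one_smul Q (m : M))
      mul_smul := fun a b m => Subtype.ext (mul_smul (a : Q) b (m : M)) }
  obtain ⟨m₀, hm₀⟩ := hN.nonempty_fixed_point_of_prime_not_dvd_card O
    (fun hd => (Nat.not_even_iff_odd.mpr hO) (even_iff_two_dvd.mpr hd))
  intro n hn m hm
  obtain ⟨l, hl, hlm⟩ := htr m₀ m₀.2 m hm
  have hn' : l⁻¹ * n * l ∈ N := by
    have := Subgroup.mem_normalizer_iff.mp (inv_mem (hLN hl)) n
    rw [inv_inv] at this
    exact this.mp hn
  have h1 : (l⁻¹ * n * l) • (m₀ : M) = m₀ := congrArg Subtype.val (hm₀ ⟨_, hn'⟩)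
  rw [mul_smul, mul_smul, inv_smul_eq_iff, hlm] at h1
  exact h1

/-- A `2`-group normalized by a group transitive on all orbits is trivial. -/
theorem two_group_eq_one (h : Good Q M) {L N : Subgroup Q} (hN : IsPGroup 2 N)
    (hLN : L ≤ Subgroup.normalizer (N : Set Q))
    (htr : ∀ (q : Q) (m : M), ∃ l ∈ L, l • m = q • m) {n : Q} (hn : n ∈ N) : n = 1 := by
  refine h.faithful n fun m => ?_
  rcases eq_or_ne m 0 with rfl | hm
  · exact smul_zero n
  refine fix_of_two_group hN hLN (MulAction.orbit Q m) (h.odd m hm)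
    (fun a _ u hu => (MulAction.mem_orbit_of_mem_orbit a hu :)) ?_ n hn m
    (MulAction.mem_orbit_self m)
  intro m₁ h₁ m₂ h₂
  obtain ⟨q₁, rfl⟩ := h₁
  obtain ⟨q₂, rfl⟩ := h₂
  obtain ⟨l, hl, hlm⟩ := htr (q₂ * q₁⁻¹) (q₁ • m)
  refine ⟨l, hl, ?_⟩
  show l • q₁ • m = q₂ • m
  rw [hlm, mul_smul, inv_smul_smul]

/-- An involution in a normal `2`-subgroup of the centralizer of `b` fixes all fixed points of
`b`, given a `b`-invariant subgroup of odd order transitive on all orbits. -/
theorem fix_le (h : Good Q M) {b v : Q} (hb : orderOf b = 2) {C N L : Subgroup Q}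
    (hC : Odd (Nat.card C)) (hbC : ∀ c ∈ C, b * c * b⁻¹ ∈ C)
    (htr : ∀ (q : Q) (m : M), ∃ c ∈ C, c • m = q • m)
    (hN : IsPGroup 2 N) (hLN : L ≤ Subgroup.normalizer (N : Set Q))
    (hCL : ∀ c ∈ C, Commute c b → c ∈ L) (hNb : ∀ n ∈ N, Commute n b) (hv : v ∈ N)
    {m : M} (hm : b • m = m) : v • m = m := by
  rcases eq_or_ne m 0 with rfl | hm0
  · exact smul_zero v
  let D : Subgroup Q := C ⊓ Subgroup.centralizer ({b} : Set Q)
  let O : Set M := {u | u ∈ MulAction.orbit Q m ∧ b • u = u}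
  have htrO : ∀ m₁ ∈ O, ∀ m₂ ∈ O, ∃ d ∈ D, d • m₁ = m₂ := by
    rintro m₁ ⟨⟨q₁, rfl⟩, h₁⟩ m₂ ⟨⟨q₂, rfl⟩, h₂⟩
    obtain ⟨c, hc, hcm⟩ := htr (q₂ * q₁⁻¹) (q₁ • m)
    rw [mul_smul, inv_smul_smul] at hcm
    simp only at h₁ h₂ ⊢
    have hbb := Small.inv_eq_self_of_orderOf_two hb
    have hbb2 := invol_mul hb
    let d := c⁻¹ * (b * c * b)
    have hdC : d ∈ C := mul_mem (inv_mem hc) (by have := hbC c hc; rwa [hbb] at this)
    have hdfix : d • q₁ • m = q₁ • m := by
      simp only [d, mul_smul]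
      rw [h₁, hcm, h₂, ← hcm, inv_smul_smul]
    have hdinv : b * d * b⁻¹ = d⁻¹ := by
      rw [hbb]
      simp only [d, mul_inv_rev, inv_inv, hbb, mul_assoc]
      rw [hbb2, mul_one]
    obtain ⟨k, hk⟩ : Odd (orderOf d) := hC.of_dvd_nat (C.orderOf_dvd_natCard hdC)
    let f := d ^ (k + 1)
    have hff : f * f = d := by
      rw [← pow_add, show k + 1 + (k + 1) = orderOf d + 1 by omega, pow_succ, pow_orderOf_eq_one,
        one_mul]
    have hfinv : b * f * b⁻¹ = f⁻¹ := by rw [← conj_pow, hdinv, inv_pow]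
    have hffix : f • q₁ • m = q₁ • m := by
      simp only [f]
      induction (k + 1) with
      | zero => simp
      | succ n ih => rw [pow_succ, mul_smul, hdfix, ih]
    refine ⟨c * f, ⟨mul_mem hc (pow_mem hdC _), Subgroup.mem_centralizer_singleton_iff.mpr ?_⟩,
      by rw [mul_smul, hffix, hcm]⟩
    have hbc : b * c * b⁻¹ = c * d := by simp [d, hbb]
    have : b * (c * f) * b⁻¹ = c * f := by
      rw [show b * (c * f) * b⁻¹ = (b * c * b⁻¹) * (b * f * b⁻¹) by simp [mul_assoc], hbc, hfinv,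
        ← hff, mul_assoc, mul_inv_cancel_right]
    exact (mul_inv_eq_iff_eq_mul.mp this).symm
  have hOcard : Odd (Nat.card O) := by
    have hOeq : O = MulAction.orbit D m := by
      ext u
      constructor
      · intro hu
        obtain ⟨d, hd, hdm⟩ := htrO m ⟨MulAction.mem_orbit_self m, hm⟩ u hu
        exact ⟨⟨d, hd⟩, hdm⟩
      · rintro ⟨d, rfl⟩
        refine ⟨⟨(d : Q), rfl⟩, ?_⟩
        show b • (d : Q) • m = (d : Q) • m
        rw [← mul_smul, ← (Subgroup.mem_centralizer_singleton_iff.mp d.2.2), mul_smul, hm]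
    rw [hOeq, Nat.card_coe_set_eq, ← MulAction.index_stabilizer]
    exact (hC.of_dvd_nat (Subgroup.card_dvd_of_le inf_le_left)).of_dvd_nat
      (Subgroup.index_dvd_card _)
  refine fix_of_two_group (L := D) hN (fun d hd => hLN (hCL d hd.1
    (Subgroup.mem_centralizer_singleton_iff.mp hd.2))) O hOcard ?_ htrO v hv m
    ⟨MulAction.mem_orbit_self m, hm⟩
  rintro n hn u ⟨hu, hbu⟩
  refine ⟨MulAction.mem_orbit_of_mem_orbit n hu, ?_⟩
  rw [← mul_smul, ← (hNb n hn).eq, mul_smul, hbu]

/-- A normal `2`-subgroup of a centralizer containing a commuting involution. -/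
theorem exists_two_normal_in (L : Subgroup Q) {v : Q} (hv : orderOf v = 2) (hvL : v ∈ L)
    (hno : ∀ z ∈ L, z ≠ 1 → Odd (orderOf z) → v * z * v⁻¹ = z⁻¹ → False) :
    ∃ N : Subgroup Q, N ≤ L ∧ IsPGroup 2 N ∧ L ≤ Subgroup.normalizer (N : Set Q) ∧ v ∈ N := by
  have hv' : orderOf (⟨v, hvL⟩ : L) = 2 := by rwa [Subgroup.orderOf_mk]
  obtain ⟨N, hN, hN2, hvN⟩ := exists_normal_two_of_no_inverted hv' fun g z _ hz1 hzo hzi =>
    hno z z.2 (fun e => hz1 (Subtype.ext e)) (by rwa [Subgroup.orderOf_coe])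
      (congrArg Subtype.val hzi)
  refine ⟨N.map L.subtype, Subgroup.map_subtype_le N, hN2.map _, ?_, ⟨_, hvN, rfl⟩⟩
  intro l hl
  rw [Subgroup.mem_normalizer_iff]
  intro n
  constructor
  · rintro ⟨a, ha, rfl⟩
    exact ⟨⟨l, hl⟩ * a * ⟨l, hl⟩⁻¹, hN.conj_mem a ha _, rfl⟩
  · rintro ⟨a, ha, han⟩
    refine ⟨⟨l, hl⟩⁻¹ * a * ⟨l, hl⟩, by simpa using hN.conj_mem a ha ⟨l, hl⟩⁻¹, ?_⟩
    show l⁻¹ * (a : Q) * l = n
    rw [show (a : Q) = l * n * l⁻¹ from han]
    simp [mul_assoc]

omit [Finite Q] [Finite M] in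
/-- The centralizer of a strongly real element is transitive on orbits. -/
theorem trans_centralizer (h : Good Q M) {z : Q} (hz : IsSR z) (q : Q) (m : M) :
    ∃ c ∈ Subgroup.centralizer ({z} : Set Q), c • m = q • m := by
  obtain ⟨c, hc, hcm⟩ := h.trans z hz q m
  exact ⟨c, Subgroup.mem_centralizer_singleton_iff.mpr hc.eq, hcm⟩

/-- Two involutions whose product has even order commute with a common involution. -/
theorem exists_comm_of_even {b v : Q} (hb : orderOf b = 2) (hv : orderOf v = 2)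
    (h : Even (orderOf (b * v))) :
    ∃ u, orderOf u = 2 ∧ Commute u b ∧ Commute u v ∧ u ∈ Subgroup.zpowers (b * v) := by
  obtain ⟨h1, h2, h3⟩ := Small.half_pow_spec hb hv h
  exact ⟨_, h1, h2, h3, Subgroup.npow_mem_zpowers _ _⟩

/-- No strongly real element of odd order has a centralizer of even order. -/
theorem odd_centralizer (h : Good Q M) {x₀ : Q} (hx₀ : IsSR x₀) :
    Odd (Nat.card (Subgroup.centralizer ({x₀} : Set Q))) := by
  classical
  haveI : Fact (Nat.Prime 2) := ⟨Nat.prime_two⟩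
  haveI : Fintype Q := Fintype.ofFinite Q
  by_contra hcon
  let S := Finset.univ.filter fun x : Q => IsSR x ∧
    ¬ Odd (Nat.card (Subgroup.centralizer ({x} : Set Q)))
  obtain ⟨x, hxS, hmax⟩ := S.exists_max_image orderOf
    ⟨x₀, Finset.mem_filter.mpr ⟨Finset.mem_univ _, hx₀, hcon⟩⟩
  simp only [S, Finset.mem_filter, Finset.mem_univ, true_and] at hxS hmax
  obtain ⟨hx, hxev⟩ := hxS
  obtain ⟨b, hb, hbx⟩ := hx.2.2
  have hbb := Small.inv_eq_self_of_orderOf_two hb
  have hbb2 := invol_mul hb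
  let K : Subgroup Q := Subgroup.centralizer ({x} : Set Q)
  have hKx : ∀ {k : Q}, k ∈ K ↔ k * x = x * k := Subgroup.mem_centralizer_singleton_iff
  have hbK : ∀ k ∈ K, b * k * b⁻¹ ∈ K := by
    intro k hk
    have h1 : (b * k * b⁻¹) * x⁻¹ = x⁻¹ * (b * k * b⁻¹) := by
      rw [← hbx]
      simp only [mul_assoc, inv_mul_cancel_left]
      rw [← mul_assoc k x, hKx.mp hk, mul_assoc]
    refine hKx.mpr ?_
    exact (Commute.inv_right_iff.mp h1).eq
  -- an involution of `K` commuting with `b`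
  obtain ⟨v, hvK, hv, hvb⟩ : ∃ v ∈ K, orderOf v = 2 ∧ Commute v b := by
    have heven : 2 ∣ Fintype.card K := by
      rw [← Nat.card_eq_fintype_card, ← even_iff_two_dvd]
      exact Nat.not_odd_iff_even.mp hxev
    let σ₁ : Equiv.Perm K := Equiv.inv K
    have hσ₁ : σ₁ ^ 2 ^ 1 = 1 := by
      ext1 k
      simp [σ₁, pow_one, sq]
    let T := {k : K // k⁻¹ = k}
    have hT : 2 ∣ Fintype.card T := by
      have h1 := Equiv.Perm.card_compl_support_modEq hσ₁
      have e : σ₁.supportᶜ.card = Fintype.card T := by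
        rw [Fintype.card_subtype]
        congr 1
        ext k
        simp [σ₁]
      rw [e] at h1
      exact Nat.modEq_zero_iff_dvd.mp (h1.trans (Nat.modEq_zero_iff_dvd.mpr heven))
    let f : T → T := fun k => ⟨⟨b * (k.1 : Q) * b⁻¹, hbK _ k.1.2⟩, Subtype.ext (by
      show (b * (k.1 : Q) * b⁻¹)⁻¹ = b * (k.1 : Q) * b⁻¹
      rw [conj_inv]
      exact congrArg (fun u : K => b * (u : Q) * b⁻¹) k.2)⟩
    have hf : ∀ k, f (f k) = k := fun k => by
      refine Subtype.ext (Subtype.ext ?_)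
      simp only [f, hbb, mul_assoc, hbb2, mul_one]
      rw [← mul_assoc, hbb2, one_mul]
    let σ₂ : Equiv.Perm T := ⟨f, f, hf, hf⟩
    have hσ₂ : σ₂ ^ 2 ^ 1 = 1 := by
      ext1 k
      simp [pow_one, sq, σ₂, hf]
    obtain ⟨k, hk, hk1⟩ := Equiv.Perm.exists_fixed_point_of_prime' hT hσ₂
      (a := ⟨1, inv_one⟩) (Subtype.ext (Subtype.ext (by simp [σ₂, f])))
    refine ⟨(k.1 : Q), k.1.2, orderOf_eq_prime ?_ ?_, ?_⟩
    · have := congrArg Subtype.val k.2
      rw [Subgroup.coe_inv] at this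
      rw [sq]
      nth_rw 1 [← this]
      exact inv_mul_cancel _
    · exact fun e => hk1 (Subtype.ext (Subtype.ext e))
    · have : b * (k.1 : Q) * b⁻¹ = k.1 := congrArg (fun u : T => ((u.1 : K) : Q)) hk
      exact (mul_inv_eq_iff_eq_mul.mp this).symm
  -- the centralizer of `b` in `K`
  let L : Subgroup Q := K ⊓ Subgroup.centralizer ({b} : Set Q)
  have hvL : v ∈ L := ⟨hvK, Subgroup.mem_centralizer_singleton_iff.mpr hvb.eq⟩
  obtain ⟨N, hNL, hN, hLN, hvN⟩ := exists_two_normal_in L hv hvL fun z hz hz1 hzo hzi => by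
    refine no_split h hb hv hvb.symm hx hz1 hzo ?_ hbx ?_ ?_ hzi
    · exact (show Commute z x from hKx.mp hz.1).symm
    · exact hKx.mp hvK
    · exact (show Commute z b from Subgroup.mem_centralizer_singleton_iff.mp hz.2).symm
  have hv1 : v ≠ 1 := Small.ne_one_of_orderOf_two hv
  -- some new element inverted by `b`
  obtain ⟨y, hyx, hyo, hby, hynx⟩ : ∃ y : Q, Commute x y ∧ Odd (orderOf y) ∧
      b * y * b⁻¹ = y⁻¹ ∧ y ∉ Subgroup.zpowers x := by
    by_contra hc
    push Not at hc
    let D : Subgroup Q := Subgroup.closure ((K : Set Q) ∪ {b})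
    have hbD : b ∈ D := Subgroup.subset_closure (Or.inr rfl)
    have hKD : K ≤ D := fun k hk => Subgroup.subset_closure (Or.inl hk)
    have hDconj : ∀ d ∈ D, d * x * d⁻¹ = x ∧ (∃ k ∈ K, d * b * d⁻¹ = k * b * k⁻¹) ∧
          (∀ k ∈ K, d * k * d⁻¹ ∈ K) ∨
        d * x * d⁻¹ = x⁻¹ ∧ (∃ k ∈ K, d * b * d⁻¹ = k * b * k⁻¹) ∧
          (∀ k ∈ K, d * k * d⁻¹ ∈ K) := by
      intro d hd
      have hd' : d ∈ K ∨ d * b ∈ K := by
        induction hd using Subgroup.closure_induction with
        | mem u hu =>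
          rcases hu with hu | hu
          · exact Or.inl hu
          · right
            rw [Set.mem_singleton_iff.mp hu, hbb2]
            exact one_mem K
        | one => exact Or.inl (one_mem K)
        | mul u u' _ _ ihu ihu' =>
          rcases ihu with hu | hu <;> rcases ihu' with hu' | hu'
          · exact Or.inl (mul_mem hu hu')
          · exact Or.inr (by rw [mul_assoc]; exact mul_mem hu hu')
          · refine Or.inr ?_
            have e : u * u' * b = (u * b) * (b * u' * b⁻¹) := by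
              simp only [hbb, mul_assoc]
              rw [← mul_assoc b b, hbb2, one_mul]
            rw [e]
            exact mul_mem hu (hbK _ hu')
          · refine Or.inl ?_
            have e : u * u' = (u * b) * (b * (u' * b) * b⁻¹) := by
              simp only [hbb, mul_assoc, hbb2, mul_one]
              rw [← mul_assoc b b, hbb2, one_mul]
            rw [e]
            exact mul_mem hu (hbK _ hu')
        | inv u _ ih =>
          rcases ih with hu | hu
          · exact Or.inl (inv_mem hu)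
          · refine Or.inr ?_
            have e : u⁻¹ * b = b * (u * b)⁻¹ * b⁻¹ := by
              simp only [hbb, mul_inv_rev, mul_assoc]
              rw [← mul_assoc b b, hbb2, one_mul]
            rw [e]
            exact hbK _ (inv_mem hu)
      rcases hd' with hk | hk
      · exact Or.inl ⟨mul_inv_eq_iff_eq_mul.mpr (hKx.mp hk), ⟨d, hk, rfl⟩,
          fun k hk' => mul_mem (mul_mem hk hk') (inv_mem hk)⟩
      · have hd2 : d = (d * b) * b := by rw [mul_assoc, hbb2, mul_one]
        refine Or.inr ⟨?_, ⟨d * b, hk, ?_⟩, fun k hk' => ?_⟩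
        · rw [hd2, show (d * b * b) * x * (d * b * b)⁻¹ = (d * b) * (b * x * b⁻¹) * (d * b)⁻¹ by
            simp [mul_assoc], hbx]
          exact mul_inv_eq_iff_eq_mul.mpr ((show Commute (d * b) x from hKx.mp hk).inv_right.eq)
        · simp only [mul_inv_rev, hbb, mul_assoc]
          rw [← mul_assoc b b, hbb2, one_mul]
        · rw [hd2, show (d * b * b) * k * (d * b * b)⁻¹ = (d * b) * (b * k * b⁻¹) * (d * b)⁻¹ by
            simp [mul_assoc]]
          exact mul_mem (mul_mem hk (hbK _ hk')) (inv_mem hk)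
    haveI hXn : ((Subgroup.zpowers x).subgroupOf D).Normal := ⟨fun u hu d => by
      rw [Subgroup.mem_subgroupOf] at hu ⊢
      obtain ⟨i, hi⟩ := Subgroup.mem_zpowers_iff.mp hu
      rw [Subgroup.coe_mul, Subgroup.coe_mul, Subgroup.coe_inv, ← hi, ← conj_zpow]
      rcases hDconj d d.2 with ⟨e, -⟩ | ⟨e, -⟩ <;> rw [e]
      · exact Subgroup.zpow_mem_zpowers _ _
      · exact Subgroup.zpow_mem _ (inv_mem (Subgroup.mem_zpowers x)) _⟩
    let φ := QuotientGroup.mk' ((Subgroup.zpowers x).subgroupOf D)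
    have hb1 : φ ⟨b, hbD⟩ ≠ 1 := by
      intro e
      have hmem : b ∈ Subgroup.zpowers x := Subgroup.mem_subgroupOf.mp ((QuotientGroup.eq_one_iff (⟨b, hbD⟩ : D)).mp e)
      obtain ⟨i, hi⟩ := Subgroup.mem_zpowers_iff.mp hmem
      refine hx.ne_inv ?_
      rw [← hbx, ← hi, ((Commute.refl x).zpow_left i).eq, mul_inv_cancel_right]
    have hb2 : orderOf (φ ⟨b, hbD⟩) = 2 := by
      refine orderOf_eq_prime ?_ hb1
      rw [← map_pow, show (⟨b, hbD⟩ : D) ^ 2 = 1 from Subtype.ext (by simp [sq, hbb2]), map_one]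
    obtain ⟨Nb, hNb, hNb2, hbNb⟩ := exists_normal_two_of_no_inverted hb2 (fun g z hz hz1 hzo _ => by
      obtain ⟨d, rfl⟩ := QuotientGroup.mk'_surjective _ g
      obtain ⟨i, rfl⟩ := Subgroup.mem_zpowers_iff.mp hz
      have hconj : ∃ k ∈ K, (d : Q) * b * (d : Q)⁻¹ = k * b * k⁻¹ := by
        rcases hDconj d d.2 with ⟨-, hk, -⟩ | ⟨-, hk, -⟩ <;> exact hk
      obtain ⟨k, hk, hkb⟩ := hconj
      let p : D := ⟨b, hbD⟩ * (d * ⟨b, hbD⟩ * d⁻¹)
      have hp : φ p = φ ⟨b, hbD⟩ * (φ d * φ ⟨b, hbD⟩ * (φ d)⁻¹) := by simp [p]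
      have hpval : (p : Q) = b * (k * b * k⁻¹) := by simp [p, ← hkb]
      have hpinv : b * (p : Q) * b⁻¹ = (p : Q)⁻¹ := by
        rw [hpval]
        exact Small.invol_conj_mul hb (by rw [Small.orderOf_conj_eq]; exact hb)
      have hpK : (p : Q) ∈ K := by
        rw [hpval, show b * (k * b * k⁻¹) = (b * k * b⁻¹) * k⁻¹ by simp [hbb, mul_assoc]]
        exact mul_mem (hbK k hk) (inv_mem hk)
      obtain ⟨j, m, hm, hjm⟩ := Nat.exists_eq_two_pow_mul_odd (orderOf_pos (p : Q)).ne'
      have hpo : orderOf ((p : Q) ^ 2 ^ j) = m := by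
        rw [orderOf_pow_of_dvd (by positivity) ⟨m, hjm⟩, hjm,
          Nat.mul_div_cancel_left _ (by positivity)]
      have hmem := hc ((p : Q) ^ 2 ^ j) ((show Commute (p : Q) x from hKx.mp hpK).pow_left _).symm
        (hpo ▸ hm) (Small.invol_conj_pow hpinv _)
      have hp2 : φ p ^ 2 ^ j = 1 := by
        rw [← map_pow]
        exact (QuotientGroup.eq_one_iff _).mpr (by rw [Subgroup.mem_subgroupOf]; simpa using hmem)
      rw [← hp] at hz1 hzo
      refine hz1 (orderOf_eq_one_iff.mp ?_)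
      have h1 : ((φ p) ^ i) ^ 2 ^ j = 1 := by
        rw [← zpow_natCast, ← zpow_mul, mul_comm, zpow_mul, zpow_natCast, hp2, one_zpow]
      exact Nat.eq_one_of_dvd_coprimes
        ((Nat.coprime_two_left.mpr hzo).pow_left j) (orderOf_dvd_of_pow_eq_one h1) dvd_rfl)
    -- the subgroup `H = K ∩ preimage`
    let H : Subgroup Q := K ⊓ (Nb.comap φ).map D.subtype
    let f : H →* D ⧸ (Subgroup.zpowers x).subgroupOf D :=
      φ.comp (Subgroup.inclusion (fun u hu => hKD hu.1) : H →* D)
    have hfN : ∀ u : H, f u ∈ Nb := fun u => by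
      obtain ⟨a, ha, hau⟩ := u.2.2
      show φ _ ∈ Nb
      have : a = Subgroup.inclusion (fun w hw => hKD (Subgroup.mem_inf.mp hw).1) u :=
        Subtype.ext hau
      rw [← this]
      exact ha
    let f' : H →* Nb := f.codRestrict Nb hfN
    haveI : Group.IsNilpotent Nb := hNb2.isNilpotent
    have hker : f'.ker ≤ Subgroup.center H := by
      intro u hu
      rw [MonoidHom.mem_ker] at hu
      have hu' : (u : Q) ∈ Subgroup.zpowers x :=
        Subgroup.mem_subgroupOf.mp ((QuotientGroup.eq_one_iff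
          (N := (Subgroup.zpowers x).subgroupOf D) _).mp (congrArg Subtype.val hu))
      rw [Subgroup.mem_center_iff]
      intro g
      obtain ⟨i, hi⟩ := Subgroup.mem_zpowers_iff.mp hu'
      apply Subtype.ext
      show (g : Q) * u = u * g
      rw [← hi]
      exact ((show Commute (g : Q) x from hKx.mp g.2.1).zpow_right i).eq
    haveI : Group.IsNilpotent H := Subgroup.isNilpotent_of_ker_le_center f' hker
    let P : Sylow 2 H := default
    haveI hPn : (P : Subgroup H).Normal :=
      Sylow.normal_of_normalizerCondition Group.normalizerCondition_of_isNilpotent P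
    let P' : Subgroup Q := (P : Subgroup H).map H.subtype
    have hHinv : ∀ k ∈ K, ∀ u ∈ H, k * u * k⁻¹ ∈ H := by
      rintro k hk u ⟨huK, a, ha, rfl⟩
      exact Subgroup.mem_inf.mpr ⟨mul_mem (mul_mem hk huK) (inv_mem hk),
        ⟨k, hKD hk⟩ * a * ⟨k, hKD hk⟩⁻¹, (hNb.comap φ).conj_mem a ha _, rfl⟩
    have hKP : K ≤ Subgroup.normalizer (P' : Set Q) := by
      intro k hk
      refine SetLike.mem_coe.mpr (Subgroup.mem_normalizer_fintype fun q hq => ?_)
      obtain ⟨a, ha, rfl⟩ := hq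
      obtain ⟨i, hi⟩ := IsPGroup.iff_orderOf.mp P.2 ⟨a, ha⟩
      let c : H := ⟨k * a * k⁻¹, hHinv k hk a a.2⟩
      have hc2 : IsPGroup 2 (Subgroup.zpowers c) := by
        refine IsPGroup.of_card (n := i) ?_
        rw [Nat.card_zpowers, ← hi, Subgroup.orderOf_mk, ← Subgroup.orderOf_coe,
          ← Subgroup.orderOf_coe]
        exact Small.orderOf_conj_eq _ _
      obtain ⟨P₂, hP₂⟩ := hc2.exists_le_sylow
      haveI := Sylow.unique_of_normal P hPn
      have : P₂ = P := Subsingleton.elim _ _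
      exact ⟨c, this ▸ hP₂ (Subgroup.mem_zpowers c), rfl⟩
    have hP'1 : ∀ q ∈ P', q = 1 := fun q hq =>
      two_group_eq_one h (P.2.map _) hKP (fun q m => trans_centralizer h hx q m) hq
    have hPbot : (P : Subgroup H) = ⊥ := (Subgroup.eq_bot_iff_forall _).mpr fun q hq =>
      Subtype.ext (hP'1 q ⟨q, hq, rfl⟩)
    have hHodd : Odd (Nat.card H) := by
      have h2 := P.not_dvd_index
      rw [hPbot, Subgroup.index_bot, ← even_iff_two_dvd] at h2
      exact Nat.not_even_iff_odd.mp h2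
    -- every element of `K` is `c * x ^ i`
    have hdec : ∀ k ∈ K, ∃ g ∈ Subgroup.zpowers x, k * g ∈ L := by
      intro k hk
      let p : Q := b * k * b⁻¹ * k⁻¹
      have hpK : p ∈ K := mul_mem (hbK k hk) (inv_mem hk)
      have hpD : (⟨p, hKD hpK⟩ : D) ∈ Nb.comap φ := by
        have e : (⟨p, hKD hpK⟩ : D) =
            ⟨b, hbD⟩ * (⟨k, hKD hk⟩ * ⟨b, hbD⟩ * ⟨k, hKD hk⟩⁻¹) :=
          Subtype.ext (by simp [p, hbb, mul_assoc])
        rw [e, Subgroup.mem_comap, map_mul]
        refine mul_mem hbNb ?_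
        rw [map_mul, map_mul, map_inv]
        exact hNb.conj_mem _ hbNb _
      have hpH : p ∈ H := ⟨hpK, ⟨p, hKD hpK⟩, hpD, rfl⟩
      have hf1 : f' ⟨p, hpH⟩ = 1 := by
        obtain ⟨i, hi⟩ := IsPGroup.iff_orderOf.mp hNb2 (f' ⟨p, hpH⟩)
        refine orderOf_eq_one_iff.mp (Nat.eq_one_of_dvd_coprimes
          ((Nat.coprime_two_left.mpr hHodd).pow_left i) (hi ▸ dvd_rfl) ?_)
        exact (orderOf_map_dvd f' _).trans (orderOf_dvd_natCard _)
      have hpx : p ∈ Subgroup.zpowers x :=
        Subgroup.mem_subgroupOf.mp ((QuotientGroup.eq_one_iff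
          (N := (Subgroup.zpowers x).subgroupOf D) _).mp (congrArg Subtype.val hf1))
      obtain ⟨o, ho⟩ := hx.2.1
      obtain ⟨i, hi⟩ := Subgroup.mem_zpowers_iff.mp hpx
      let g : Q := x ^ (i * (o + 1))
      have hgg : g * g = p := by
        have e1 : ((orderOf x : ℕ) : ℤ) = 2 * o + 1 := by exact_mod_cast ho
        rw [← zpow_add, ← hi, show i * (o + 1) + i * (o + 1) = i + ((orderOf x : ℕ) : ℤ) * i by
          rw [e1]; ring, zpow_add, zpow_mul, zpow_natCast, pow_orderOf_eq_one, one_zpow, mul_one]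
      have hgk : Commute g k := ((show Commute k x from hKx.mp hk).zpow_right _).symm
      have hgb : b * g * b⁻¹ = g⁻¹ := by rw [← conj_zpow, hbx, inv_zpow]
      refine ⟨g, Subgroup.zpow_mem_zpowers _ _, mul_mem hk (zpow_mem (hKx.mpr rfl) _),
        Subgroup.mem_centralizer_singleton_iff.mpr ?_⟩
      have e : b * (k * g) * b⁻¹ = k * g := by
        rw [show b * (k * g) * b⁻¹ = p * k * (b * g * b⁻¹) by simp [p, mul_assoc], hgb, ← hgg,
          mul_assoc g g k, hgk.eq, ← mul_assoc, mul_inv_cancel_right, hgk.eq]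
      exact (mul_inv_eq_iff_eq_mul.mp e).symm
    refine hv1 (two_group_eq_one h hN (L := K) ?_ (fun q m => trans_centralizer h hx q m) hvN)
    intro k hk
    obtain ⟨g, hg, hkg⟩ := hdec k hk
    have hgN : g ∈ Subgroup.normalizer (N : Set Q) := by
      rw [Subgroup.mem_normalizer_iff]
      intro u
      obtain ⟨i, hi⟩ := Subgroup.mem_zpowers_iff.mp hg
      have hcom : ∀ n ∈ N, g * n * g⁻¹ = n := fun n hn => by
        rw [← hi]
        exact mul_inv_eq_iff_eq_mul.mpr
          ((show Commute n x from hKx.mp (hNL hn).1).zpow_right i).eq.symm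
      constructor
      · intro hu; rw [hcom u hu]; exact hu
      · intro hu
        have h1 := hcom _ hu
        have h2 : g * u * g⁻¹ = u := mul_left_cancel (mul_right_cancel h1)
        exact h2 ▸ hu
    have := mul_mem (hLN hkg) (inv_mem hgN)
    rwa [mul_inv_cancel_right] at this
  obtain ⟨w, hxw, hyw, hwSR, hwo, hbw, -⟩ :=
    exists_generator h hb hyx hbx hby hx.2.1 hyo
  have hw1 : w ≠ 1 := fun e => by
    rw [e, Subgroup.zpowers_one_eq_bot, Subgroup.mem_bot] at hxw
    exact hx.1 hxw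
  have hw := hwSR hw1
  have hlt : orderOf x < orderOf w := by
    by_contra hle
    push Not at hle
    have heq : Subgroup.zpowers x = Subgroup.zpowers w := by
      refine Subgroup.eq_of_le_of_card_ge (Subgroup.zpowers_le.mpr hxw) ?_
      rwa [Nat.card_zpowers, Nat.card_zpowers]
    exact hynx (heq ▸ hyw)
  have hCodd : Odd (Nat.card (Subgroup.centralizer ({w} : Set Q))) := by
    by_contra hC
    exact absurd (hmax w ⟨hw, hC⟩) (not_le.mpr hlt)
  have hCK : Subgroup.centralizer ({w} : Set Q) ≤ K := by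
    intro c hc
    obtain ⟨i, hi⟩ := Subgroup.mem_zpowers_iff.mp hxw
    refine hKx.mpr ?_
    rw [← hi]
    exact ((show Commute c w from Subgroup.mem_centralizer_singleton_iff.mp hc).zpow_right i).eq
  have hbC : ∀ c ∈ Subgroup.centralizer ({w} : Set Q),
      b * c * b⁻¹ ∈ Subgroup.centralizer ({w} : Set Q) := by
    intro c hc
    have h1 : (b * c * b⁻¹) * w⁻¹ = w⁻¹ * (b * c * b⁻¹) := by
      rw [← hbw]
      simp only [mul_assoc, inv_mul_cancel_left]
      rw [← mul_assoc c w, Subgroup.mem_centralizer_singleton_iff.mp hc, mul_assoc]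
    exact Subgroup.mem_centralizer_singleton_iff.mpr (Commute.inv_right_iff.mp h1).eq
  have hvfix : ∀ m : M, b • m = m → v • m = m := fun m hm =>
    fix_le h hb hCodd hbC (trans_centralizer h hw) hN hLN
      (fun c hc hcb => ⟨hCK hc, Subgroup.mem_centralizer_singleton_iff.mpr hcb.eq⟩)
      (fun n hn => Subgroup.mem_centralizer_singleton_iff.mp (hNL hn).2) hvN hm
  refine hv1 (h.faithful v fun m => ?_)
  -- the fixed points of `b` span
  have e1 : v • (m + b • m) = m + b • m := hvfix _ (by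
    rw [smul_add, ← mul_smul, hbb2, one_smul, add_comm])
  have e2 : v • (x • m + b • x • m) = x • m + b • x • m := hvfix _ (by
    rw [smul_add, ← mul_smul b b, hbb2, one_smul, add_comm])
  have hbxm : ∀ u : M, b • x • u = x⁻¹ • b • u := by
    intro u
    rw [← mul_smul, ← mul_smul]
    congr 1
    rw [← hbx, mul_assoc, inv_mul_cancel, mul_one]
  have hvx : ∀ u : M, v • x • u = x • v • u := fun u => by
    rw [← mul_smul, ← mul_smul, hKx.mp hvK]
  have hvxi : ∀ u : M, v • x⁻¹ • u = x⁻¹ • v • u := fun u => by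
    rw [← mul_smul, ← mul_smul, (show Commute v x from hKx.mp hvK).inv_right.eq]
  rw [smul_add] at e1
  rw [smul_add, hvx, hbxm, hvxi] at e2
  set u := v • m - m with hu
  have hu1 : v • b • m - b • m = -u := by rw [hu]; linear_combination (norm := abel) e1
  have hu2 : x • u + x⁻¹ • (-u) = 0 := by
    rw [← hu1, hu, smul_sub, smul_sub]
    linear_combination (norm := abel) e2
  have hxu : x • u = x⁻¹ • u := by
    rw [smul_neg, ← sub_eq_add_neg, sub_eq_zero] at hu2
    exact hu2
  have hx2 : (x * x) • u = u := by rw [mul_smul, hxu, smul_inv_smul]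
  obtain ⟨o, ho⟩ := hx.2.1
  have hxfix : x • u = u := by
    have hp : ∀ n : ℕ, ((x * x) ^ n) • u = u := by
      intro n
      induction n with
      | zero => simp
      | succ n ih => rw [pow_succ, mul_smul, hx2, ih]
    have := hp (o + 1)
    rwa [← sq, ← pow_mul, show 2 * (o + 1) = orderOf x + 1 by omega, pow_succ, pow_orderOf_eq_one,
      one_mul] at this
  exact sub_eq_zero.mp (fpf h hx hxfix)

/-- The main theorem of the linear situation. -/
theorem isSolvable_of_good (h : Good Q M) : Group.IsSolvable Q := by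
  classical
  haveI : Fact (Nat.Prime 2) := ⟨Nat.prime_two⟩
  by_cases hodd : Odd (Nat.card Q)
  · exact Cfsg.Agent.S0205.result hodd
  have hev : 2 ∣ Nat.card Q := even_iff_two_dvd.mp (Nat.not_odd_iff_even.mp hodd)
  haveI : Fintype Q := Fintype.ofFinite Q
  -- every involution inverts a strongly real element
  have hinvert : ∀ b : Q, orderOf b = 2 → ∃ y, IsSR y ∧ b * y * b⁻¹ = y⁻¹ := by
    intro b hb
    by_contra hc
    push Not at hc
    obtain ⟨N, hN, hN2, hbN⟩ := exists_normal_two_of_no_inverted hb fun g z _ hz1 hzo hzi =>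
      hc z ⟨hz1, hzo, b, hb, hzi⟩ hzi
    refine Small.ne_one_of_orderOf_two hb (two_group_eq_one h hN2 (L := ⊤) ?_ ?_ hbN)
    · exact (Subgroup.normalizer_eq_top_iff.mpr hN).ge
    · exact fun q m => ⟨q, trivial, rfl⟩
  -- commuting involutions have the same fixed points
  have hle : ∀ b v : Q, orderOf b = 2 → orderOf v = 2 → Commute v b →
      ∀ m : M, b • m = m → v • m = m := by
    intro b v hb hv hvb m hm
    obtain ⟨y, hy, hby⟩ := hinvert b hb
    have hbC : ∀ c ∈ Subgroup.centralizer ({y} : Set Q),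
        b * c * b⁻¹ ∈ Subgroup.centralizer ({y} : Set Q) := by
      intro c hc
      have h1 : (b * c * b⁻¹) * y⁻¹ = y⁻¹ * (b * c * b⁻¹) := by
        rw [← hby]
        simp only [mul_assoc, inv_mul_cancel_left]
        rw [← mul_assoc c y, Subgroup.mem_centralizer_singleton_iff.mp hc, mul_assoc]
      exact Subgroup.mem_centralizer_singleton_iff.mpr (Commute.inv_right_iff.mp h1).eq
    obtain ⟨N, hNL, hN, hLN, hvN⟩ := exists_two_normal_in (Subgroup.centralizer ({b} : Set Q)) hv
      (Subgroup.mem_centralizer_singleton_iff.mpr hvb.eq) fun z hz hz1 hzo hzi => by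
        have hbmem : b ∈ Subgroup.centralizer ({z} : Set Q) :=
          Subgroup.mem_centralizer_singleton_iff.mpr
            (Subgroup.mem_centralizer_singleton_iff.mp hz).symm
        have hd := (Subgroup.centralizer ({z} : Set Q)).orderOf_dvd_natCard hbmem
        rw [hb, ← even_iff_two_dvd] at hd
        exact Nat.not_even_iff_odd.mpr (odd_centralizer h ⟨hz1, hzo, v, hv, hzi⟩) hd
    exact fix_le h hb (odd_centralizer h hy) hbC (trans_centralizer h hy) hN hLN
      (fun c _ hcb => Subgroup.mem_centralizer_singleton_iff.mpr hcb.eq)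
      (fun n hn => Subgroup.mem_centralizer_singleton_iff.mp (hNL hn)) hvN hm
  have heqc : ∀ b v : Q, orderOf b = 2 → orderOf v = 2 → Commute v b → Fix Q M b = Fix Q M v :=
    fun b v hb hv hvb => Set.Subset.antisymm (hle b v hb hv hvb) (hle v b hv hb hvb.symm)
  have hnz : ∀ b : Q, orderOf b = 2 → ∀ m : M, m ≠ 0 →
      ∃ u ∈ Fix Q M b, u ≠ 0 ∧ (u = m ∨ u = m + b • m) := by
    intro b hb m hm
    by_cases he : m + b • m = 0
    · refine ⟨m, ?_, hm, Or.inl rfl⟩
      show b • m = m
      exact add_left_cancel (a := m) (he.trans (h.exp m).symm)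
    · refine ⟨_, ?_, he, Or.inr rfl⟩
      show b • (m + b • m) = m + b • m
      rw [smul_add, ← mul_smul, invol_mul hb, one_smul, add_comm]
  have hshare : ∀ b v : Q, orderOf b = 2 → orderOf v = 2 → ∀ m : M, m ≠ 0 →
      b • m = m → v • m = m → Fix Q M b = Fix Q M v := by
    intro b v hb hv m hm hbm hvm
    have hzm : (b * v) • m = m := by rw [mul_smul, hvm, hbm]
    rcases Nat.even_or_odd (orderOf (b * v)) with he | ho
    · obtain ⟨u, hu, hub, huv, -⟩ := exists_comm_of_even hb hv he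
      rw [heqc b u hb hu hub, heqc v u hv hu huv]
    · by_cases hz : b * v = 1
      · rw [mul_eq_one_iff_eq_inv.mp hz, Small.inv_eq_self_of_orderOf_two hv]
      · exact absurd (fpf h ⟨hz, ho, b, hb, Small.invol_conj_mul hb hv⟩ hzm) hm
  have hodd_prod : ∀ b v : Q, orderOf b = 2 → orderOf v = 2 → Fix Q M b ≠ Fix Q M v →
      IsSR (b * v) := by
    intro b v hb hv hne
    refine ⟨fun e => hne (by rw [mul_eq_one_iff_eq_inv.mp e, Small.inv_eq_self_of_orderOf_two hv]),
      Nat.not_even_iff_odd.mp fun he => hne ?_, b, hb, Small.invol_conj_mul hb hv⟩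
    obtain ⟨u, hu, hub, huv, -⟩ := exists_comm_of_even hb hv he
    rw [heqc b u hb hu hub, heqc v u hv hu huv]
  have hconj : ∀ b v : Q, orderOf b = 2 → orderOf v = 2 → ∃ g : Q, g • Fix Q M b = Fix Q M v := by
    intro b v hb hv
    by_cases he : Fix Q M b = Fix Q M v
    · exact ⟨1, by rw [one_smul, he]⟩
    · obtain ⟨k, hk⟩ := Small.conj_pow_eq_of_odd hb hv (hodd_prod b v hb hv he).2.1
      exact ⟨(b * v) ^ k, by rw [smul_Fix, hk]⟩
  -- an involution fixes only its own point
  have hone : ∀ b v : Q, orderOf b = 2 → orderOf v = 2 → b • Fix Q M v = Fix Q M v →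
      Fix Q M b = Fix Q M v := by
    intro b v hb hv he
    obtain ⟨m₀, hm₀⟩ := h.nt
    obtain ⟨m, hm, hm0, -⟩ := hnz v hv m₀ hm₀
    have hbm : b • m ∈ Fix Q M v := he ▸ Set.smul_mem_smul_set hm
    obtain ⟨u, hu, hu0, hu'⟩ := hnz b hb m hm0
    have huv : v • u = u := by
      have h1 : v • m = m := hm
      have h2 : v • b • m = b • m := hbm
      rcases hu' with rfl | rfl
      · exact h1
      · rw [smul_add, h1, h2]
    exact hshare b v hb hv u hu0 hu huv
  -- centralizers of strongly real elements are transitive on the points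
  have htrP : ∀ z : Q, IsSR z → ∀ b v : Q, orderOf b = 2 → orderOf v = 2 →
      ∃ c, Commute c z ∧ c • Fix Q M b = Fix Q M v := by
    intro z hz b v hb hv
    obtain ⟨g, hg⟩ := hconj b v hb hv
    obtain ⟨m₀, hm₀⟩ := h.nt
    obtain ⟨m, hm, hm0, -⟩ := hnz b hb m₀ hm₀
    obtain ⟨c, hc, hcm⟩ := h.trans z hz g m
    refine ⟨c, hc, ?_⟩
    have h1 : c • m ∈ c • Fix Q M b := Set.smul_mem_smul_set hm
    have h2 : c • m ∈ Fix Q M v := by rw [hcm, ← hg]; exact Set.smul_mem_smul_set hm
    rw [smul_Fix] at h1 ⊢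
    exact hshare _ v (by rw [Small.orderOf_conj_eq, hb]) hv (c • m)
      ((smul_ne_zero_iff_ne c).mpr hm0) h1 h2
  -- two involutions moving a point alike are equal
  have huniq : ∀ b b' v : Q, orderOf b = 2 → orderOf b' = 2 → orderOf v = 2 →
      Fix Q M b ≠ Fix Q M v → b • Fix Q M v = b' • Fix Q M v → b = b' := by
    intro b b' v hb hb' hv hne he
    by_contra hbb'
    have hzl : (b * b') • Fix Q M v = Fix Q M v := by
      rw [mul_smul, ← he, ← mul_smul, invol_mul hb, one_smul]
    have hz1 : b * b' ≠ 1 := fun e => hbb' (by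
      rw [mul_eq_one_iff_eq_inv.mp e, Small.inv_eq_self_of_orderOf_two hb'])
    rcases Nat.even_or_odd (orderOf (b * b')) with hev' | ho
    · obtain ⟨u, hu, hub, -, huz⟩ := exists_comm_of_even hb hb' hev'
      obtain ⟨i, hi⟩ := Subgroup.mem_zpowers_iff.mp huz
      have hul : u • Fix Q M v = Fix Q M v := by
        rw [← hi]
        exact zpow_mem (show (b * b') ∈ MulAction.stabilizer Q (Fix Q M v) from hzl) i
      exact hne ((heqc b u hb hu hub).trans (hone u v hu hv hul))
    have hz : IsSR (b * b') := ⟨hz1, ho, b, hb, Small.invol_conj_mul hb hb'⟩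
    have hzb : (b * b') • Fix Q M b = Fix Q M b := by
      obtain ⟨c, hc, hcl⟩ := htrP _ hz v b hv hb
      rw [← hcl, ← mul_smul, ← hc.eq, mul_smul, hzl]
    have hz2 : IsSR ((b * b') * (b * b')) := by
      refine ⟨fun e => hz.sq_ne_one (by rw [sq, e]), ?_, b, hb, ?_⟩
      · rw [← sq]
        exact ho.of_dvd_nat (orderOf_pow_dvd 2)
      · rw [← sq, ← conj_pow, Small.invol_conj_mul hb hb', inv_pow]
    obtain ⟨m₀, hm₀⟩ := h.nt
    obtain ⟨m, hm, hm0, -⟩ := hnz b hb m₀ hm₀
    have hb1 : b • m = m := hm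
    refine hm0 (fpf h hz2 ?_)
    have h2 : ((b * b') * b * (b * b')⁻¹) • m = m := by
      rw [smul_Fix] at hzb
      exact (hzb.symm ▸ hm : m ∈ Fix Q M ((b * b') * b * (b * b')⁻¹))
    have e1 : (b * b') * (b * b') = (b * b') * b * (b * b')⁻¹ * b := by
      simp only [mul_inv_rev, Small.inv_eq_self_of_orderOf_two hb,
        Small.inv_eq_self_of_orderOf_two hb', mul_assoc, invol_mul hb, mul_one]
    rw [e1, mul_smul _ b m, hb1, h2]
  -- counting
  let I := Finset.univ.filter fun b : Q => orderOf b = 2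
  let Pts : Finset (Set M) := I.image (Fix Q M)
  have hmemI : ∀ {b}, b ∈ I ↔ orderOf b = 2 := by simp [I]
  obtain ⟨b₀, hb₀⟩ := exists_prime_orderOf_dvd_card' 2 hev
  have hP2 : 1 < Pts.card := by
    obtain ⟨y, hy, hby⟩ := hinvert b₀ hb₀
    rw [Finset.one_lt_card]
    refine ⟨_, Finset.mem_image_of_mem _ (hmemI.mpr hb₀), _,
      Finset.mem_image_of_mem _ ((hmemI (b := y * b₀ * y⁻¹)).mpr (by rw [Small.orderOf_conj_eq, hb₀])),
      fun e => ?_⟩
    obtain ⟨m₀, hm₀⟩ := h.nt
    obtain ⟨m, hm, hm0, -⟩ := hnz b₀ hb₀ m₀ hm₀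
    have hm' : (y * b₀ * y⁻¹) • m = m := (e ▸ hm : m ∈ Fix Q M (y * b₀ * y⁻¹))
    have hb1 : b₀ • m = m := hm
    have hy2 : IsSR (y * y) := by
      refine ⟨fun e' => hy.sq_ne_one (by rw [sq, e']), ?_, b₀, hb₀, ?_⟩
      · rw [← sq]; exact hy.2.1.of_dvd_nat (orderOf_pow_dvd 2)
      · rw [← sq, ← conj_pow, hby, inv_pow]
    refine hm0 (fpf h hy2 ?_)
    have e1 : y * y = y * b₀ * y⁻¹ * b₀ := by
      have h1 : b₀ * y⁻¹ * b₀⁻¹ = y := by rw [← conj_inv, hby, inv_inv]
      rw [Small.inv_eq_self_of_orderOf_two hb₀] at h1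
      rw [mul_assoc y b₀, mul_assoc y, h1]
    rw [e1, mul_smul _ b₀ m, hb1, hm']
  have hcount : I.card * (Pts.card - 1) ≤ Pts.card * (Pts.card - 1) := by
    have hsig : (I.sigma fun b => Pts.erase (Fix Q M b)).card = I.card * (Pts.card - 1) := by
      rw [Finset.card_sigma, Finset.sum_const_nat]
      intro b hb
      exact Finset.card_erase_of_mem (Finset.mem_image_of_mem _ hb)
    have hoff : Pts.offDiag.card = Pts.card * (Pts.card - 1) := by
      rw [Finset.offDiag_card, Nat.mul_sub, mul_one]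
    rw [← hsig, ← hoff]
    refine Finset.card_le_card_of_injOn (fun p => (p.2, p.1 • p.2)) ?_ ?_
    · rintro ⟨b, l⟩ hp
      simp only [Finset.mem_coe, Finset.mem_sigma, Finset.mem_erase] at hp
      obtain ⟨hb, hne, hl⟩ := hp
      obtain ⟨v, hv, rfl⟩ := Finset.mem_image.mp hl
      rw [Finset.mem_coe, Finset.mem_offDiag]
      refine ⟨hl, ?_, fun e => hne ?_⟩
      · show b • Fix Q M v ∈ Pts
        rw [smul_Fix]
        exact Finset.mem_image_of_mem _ (hmemI.mpr (by rw [Small.orderOf_conj_eq, hmemI.mp hv]))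
      · exact (hone b v (hmemI.mp hb) (hmemI.mp hv) e.symm).symm
    · rintro ⟨b, l⟩ hp ⟨b', l'⟩ hp' he
      simp only [Finset.mem_coe, Finset.mem_sigma, Finset.mem_erase] at hp hp'
      simp only [Prod.mk.injEq] at he
      obtain ⟨rfl, he⟩ := he
      obtain ⟨hb, hne, hl⟩ := hp
      obtain ⟨v, hv, rfl⟩ := Finset.mem_image.mp hl
      rw [huniq b b' v (hmemI.mp hb) (hmemI.mp hp'.1) (hmemI.mp hv) (Ne.symm hne) he]
  have hinjF : ∀ b v : Q, orderOf b = 2 → orderOf v = 2 → Fix Q M b = Fix Q M v → b = v := by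
    have hcard : Pts.card = I.card := le_antisymm Finset.card_image_le
      (Nat.le_of_mul_le_mul_right hcount (by omega))
    intro b v hb hv he
    exact Finset.card_image_iff.mp hcard (hmemI.mpr hb) (hmemI.mpr hv) he
  have hall : ∀ b v u : Q, orderOf b = 2 → orderOf v = 2 → orderOf u = 2 →
      u * (b * v) * u⁻¹ = (b * v)⁻¹ := by
    intro b v u hb hv hu
    by_cases hbv : b = v
    · subst hbv; simp [invol_mul hb]
    have hz := hodd_prod b v hb hv fun e => hbv (hinjF b v hb hv e)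
    obtain ⟨c, hc, hcl⟩ := htrP _ hz b u hb hu
    rw [smul_Fix] at hcl
    have hu' := hinjF _ u (by rw [Small.orderOf_conj_eq, hb]) hu hcl
    have h1 : c⁻¹ * (b * v) * c = b * v := by
      rw [mul_assoc, ← hc.eq, inv_mul_cancel_left]
    calc u * (b * v) * u⁻¹ = c * (b * (c⁻¹ * (b * v) * c) * b⁻¹) * c⁻¹ := by
          rw [← hu']; simp [mul_assoc]
      _ = c * (b * v)⁻¹ * c⁻¹ := by rw [h1, Small.invol_conj_mul hb hv]
      _ = (b * v)⁻¹ := by rw [hc.inv_right.eq, mul_inv_cancel_right]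
  let S : Set Q := {p | ∃ b v : Q, orderOf b = 2 ∧ orderOf v = 2 ∧ b * v = p}
  let A := Subgroup.closure S
  have hgen : ∀ p ∈ S, ∀ r ∈ S, p * r = r * p := by
    rintro _ ⟨b, v, hb, hv, rfl⟩ _ ⟨b', v', hb', hv', rfl⟩
    have h1 := hall b' v' b hb' hv' hb
    have h2 := hall b' v' v hb' hv' hv
    refine mul_inv_eq_iff_eq_mul.mp ?_
    rw [show b * v * (b' * v') * (b * v)⁻¹ = b * (v * (b' * v') * v⁻¹) * b⁻¹ by simp [mul_assoc],
      h2, ← conj_inv, h1, inv_inv]
  haveI : IsMulCommutative A := Subgroup.isMulCommutative_closure hgen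
  have hcomm : ∀ a ∈ A, ∀ c ∈ A, a * c = c * a := fun a ha c hc =>
    congrArg Subtype.val (mul_comm' (⟨a, ha⟩ : A) ⟨c, hc⟩)
  have hboth : ∀ a ∈ A, b₀ * a * b₀⁻¹ = a⁻¹ ∧ Odd (orderOf a) := by
    intro a ha
    induction ha using Subgroup.closure_induction with
    | mem p hp =>
      obtain ⟨b, v, hb, hv, rfl⟩ := hp
      refine ⟨hall b v b₀ hb hv hb₀, ?_⟩
      by_cases hbv : b = v
      · subst hbv; simp [invol_mul hb]
      · exact (hodd_prod b v hb hv fun e => hbv (hinjF b v hb hv e)).2.1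
    | one => simp
    | mul p r hp hr ihp ihr =>
      have hc : Commute p r := hcomm p hp r hr
      refine ⟨?_, (ihp.2.mul ihr.2).of_dvd_nat hc.orderOf_mul_dvd_mul_orderOf⟩
      rw [show b₀ * (p * r) * b₀⁻¹ = (b₀ * p * b₀⁻¹) * (b₀ * r * b₀⁻¹) by simp [mul_assoc],
        ihp.1, ihr.1, ← mul_inv_rev, hc.eq]
    | inv p _ ih => exact ⟨by rw [← conj_inv, ih.1], by rw [orderOf_inv]; exact ih.2⟩
  haveI := isCyclic_of_SR h A hcomm
    fun a ha hne => ⟨hne, (hboth a ha).2, b₀, hb₀, (hboth a ha).1⟩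
  haveI hAn : A.Normal := ⟨fun a ha g => by
    induction ha using Subgroup.closure_induction with
    | mem p hp =>
      obtain ⟨b, v, hb, hv, rfl⟩ := hp
      exact Subgroup.subset_closure ⟨g * b * g⁻¹, g * v * g⁻¹, by rw [Small.orderOf_conj_eq, hb],
        by rw [Small.orderOf_conj_eq, hv], by simp [mul_assoc]⟩
    | one => simp
    | mul p r _ _ ihp ihr =>
      rw [show g * (p * r) * g⁻¹ = (g * p * g⁻¹) * (g * r * g⁻¹) by simp [mul_assoc]]
      exact mul_mem ihp ihr
    | inv p _ ih => rw [← conj_inv]; exact inv_mem ih⟩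
  have hCodd : Odd (Nat.card (Subgroup.centralizer (A : Set Q))) := by
    by_contra hcon
    obtain ⟨⟨u, huC⟩, hu⟩ := exists_prime_orderOf_dvd_card' 2
      (even_iff_two_dvd.mp (Nat.not_odd_iff_even.mp hcon))
    rw [Subgroup.orderOf_mk] at hu
    obtain ⟨y, hy, hby⟩ := hinvert b₀ hb₀
    have hyb : orderOf (y * b₀ * y⁻¹) = 2 := by rw [Small.orderOf_conj_eq, hb₀]
    have hne : b₀ ≠ y * b₀ * y⁻¹ := by
      intro e
      refine hy.ne_inv ?_
      rw [← hby, eq_mul_inv_iff_mul_eq.mp e, mul_inv_cancel_right]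
    have hz := hodd_prod b₀ _ hb₀ hyb fun e => hne (hinjF _ _ hb₀ hyb e)
    have hzA : b₀ * (y * b₀ * y⁻¹) ∈ A := Subgroup.subset_closure ⟨_, _, hb₀, hyb, rfl⟩
    refine hz.ne_inv ?_
    rw [← hall b₀ _ u hb₀ hyb hu, ← Subgroup.mem_centralizer_iff.mp huC _ hzA,
      mul_inv_cancel_right]
  haveI : Group.IsSolvable (Subgroup.centralizer (A : Set Q)) := Cfsg.Agent.S0205.result hCodd
  let ψ : Q →* MulAut A := MulAut.conjNormal
  have hψ : ∀ f g : MulAut A, f * g = g * f := by
    intro f g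
    obtain ⟨i, hi⟩ := MonoidHom.map_cyclic f.toMonoidHom
    obtain ⟨j, hj⟩ := MonoidHom.map_cyclic g.toMonoidHom
    ext a
    have hi' : ∀ a, f a = a ^ i := hi
    have hj' : ∀ a, g a = a ^ j := hj
    show ((f (g a) : A) : Q) = ((g (f a) : A) : Q)
    rw [hj', hi', hj', hi', ← zpow_mul, ← zpow_mul, mul_comm]
  haveI : Group.IsSolvable (MulAut A) := Group.isSolvable_of_comm hψ
  refine Group.isSolvable_of_ker_le_range (Subgroup.centralizer (A : Set Q)).subtype ψ ?_
  intro q hq
  rw [Subgroup.range_subtype]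
  refine Subgroup.mem_centralizer_iff.mpr fun a ha => ?_
  have := congrArg Subtype.val (DFunLike.congr_fun (MonoidHom.mem_ker.mp hq) ⟨a, ha⟩)
  simp only [ψ, MulAut.conjNormal_apply, MulAut.one_apply] at this
  exact (mul_inv_eq_iff_eq_mul.mp this).symm

end Action

end CfsgLib.RealClassGraph
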