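import Cfsg.Agent.RealClassGraph.Lift
import Cfsg.Agent.RealClassGraph.Module
import Cfsg.Agent.RealElements.TwoClosed
import Cfsg.Agent.SingularClassGraph.Coprime

/-!
# A disconnected real class size graph forces solvability

If the class sizes of real elements are split by a set `π` of odd primes and some involution has a
class size `≠ 1` all of whose primes lie in `π`, the group is solvable.
-/

set_option autoImplicit false

namespace CfsgLib.RealClassGraph

universe u

variable {G : Type u} [Group G]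

/-- The class size. -/
noncomputable abbrev idx (x : G) : ℕ := (Subgroup.centralizer ({x} : Set G)).index

/-- The class of an element. -/
abbrev cls (x : G) : Set G := Set.range fun g => g * x * g⁻¹

theorem card_cls [Finite G] (x : G) : Nat.card (cls x) = idx x := by
  have h : cls x = MulAction.orbit (ConjAct G) x := by
    ext y
    constructor
    · rintro ⟨g, rfl⟩; exact ⟨ConjAct.toConjAct g, ConjAct.toConjAct_smul g x⟩
    · rintro ⟨g, rfl⟩; exact ⟨ConjAct.ofConjAct g, (ConjAct.smul_def g x).symm⟩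
  rw [h, Nat.card_coe_set_eq, ← MulAction.index_stabilizer, idx,
    Subgroup.centralizer_eq_comap_stabilizer]
  exact (Subgroup.index_comap_of_surjective _ ConjAct.toConjAct.surjective).symm

/-- Every real class size has all or none of its primes in `π`. -/
def Dich (π : Set ℕ) (G : Type u) [Group G] : Prop :=
  ∀ x : G, IsConj x x⁻¹ → ∀ p q : ℕ, p.Prime → q.Prime → p ∣ idx x → q ∣ idx x → p ∈ π → q ∈ π

/-- A noncentral involution whose class size is a `π`-number. -/
def PiInv (π : Set ℕ) (t : G) : Prop :=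
  orderOf t = 2 ∧ idx t ≠ 1 ∧ ∀ p : ℕ, p.Prime → p ∣ idx t → p ∈ π

theorem isConj_self_inv_of_sq {t : G} (h : t * t = 1) : IsConj t t⁻¹ := by
  rw [inv_eq_of_mul_eq_one_right h]

theorem sq_ne_one_of_odd {x : G} (hx : x ≠ 1) (ho : Odd (orderOf x)) : x ^ 2 ≠ 1 := fun e => by
  rcases (Nat.dvd_prime Nat.prime_two).mp (orderOf_dvd_of_pow_eq_one e) with h | h
  · exact hx (orderOf_eq_one_iff.mp h)
  · rw [h] at ho
    exact absurd ho (by decide)

variable [Finite G] {π : Set ℕ}

/-- A group without real elements of odd order is solvable. -/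
theorem isSolvable_of_noOddReal (h : RealElements.NoOddReal G) : Group.IsSolvable G := by
  haveI : Fact (Nat.Prime 2) := ⟨Nat.prime_two⟩
  let P : Sylow 2 G := default
  haveI := RealElements.sylow_two_normal h P
  haveI : Group.IsNilpotent (P : Subgroup G) := P.2.isNilpotent
  refine (Group.isSolvable_iff_subgroup_quotient (P : Subgroup G)).mpr
    ⟨inferInstance, Cfsg.Agent.S0205.result ?_⟩
  rw [← Subgroup.index_eq_card]
  exact Nat.not_even_iff_odd.mp fun he => P.not_dvd_index (even_iff_two_dvd.mp he)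

variable (h2 : 2 ∉ π) (hd : Dich π G)
include h2 hd

/-- The centralizer of a real element of order `> 2` is transitive on the class of a `π`-involution. -/
theorem exists_conj_of_real {z : G} (hz : IsConj z z⁻¹) (hz2 : z ^ 2 ≠ 1) {t : G} (ht : PiInv π t)
    (g : G) : ∃ c : G, Commute c z ∧ c * t * c⁻¹ = g * t * g⁻¹ := by
  have heven : 2 ∣ idx z := even_iff_two_dvd.mp (Nat.not_odd_iff_even.mp fun ho =>
    hz2 (RealElements.sq_eq_one_of_odd_index hz ho))
  have hcop : (idx z).Coprime (idx t) := Nat.coprime_of_dvd fun p hp h1 h3 =>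
    h2 (hd z hz p 2 hp Nat.prime_two h1 heven (ht.2.2 p hp h3))
  obtain ⟨a, ha, b, hb, rfl⟩ := SingularClassGraph.exists_mul_of_coprime_index hcop g
  refine ⟨a, Subgroup.mem_centralizer_singleton_iff.mp ha, ?_⟩
  rw [show a * b * t * (a * b)⁻¹ = a * (b * t * b⁻¹) * a⁻¹ by simp [mul_assoc],
    SingularClassGraph.conj_eq_of_mem_cent hb]

omit hd in
/-- A `π`-involution has a class of odd size. -/
theorem odd_idx {t : G} (ht : PiInv π t) : Odd (idx t) :=
  Nat.not_even_iff_odd.mp fun he => h2 (ht.2.2 2 Nat.prime_two (even_iff_two_dvd.mp he))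

/-- The centralizer of a `π`-involution has no real element of odd order. -/
theorem noOddReal_centralizer {t : G} (ht : PiInv π t) :
    RealElements.NoOddReal (Subgroup.centralizer ({t} : Set G)) := by
  rintro ⟨x, hxt⟩ hx1 hxo hconj
  obtain ⟨⟨g, hgt⟩, hg⟩ := isConj_iff.mp hconj
  rw [Subgroup.orderOf_mk] at hxo
  have hx1' : x ≠ 1 := fun e => hx1 (Subtype.ext e)
  have hgx : g * x * g⁻¹ = x⁻¹ := congrArg Subtype.val hg
  have hxt' : Commute x t := Subgroup.mem_centralizer_singleton_iff.mp hxt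
  have hgt' : Commute g t := Subgroup.mem_centralizer_singleton_iff.mp hgt
  have ht2 := Small.inv_eq_self_of_orderOf_two ht.1
  have hz : IsConj (x * t) (x * t)⁻¹ := by
    refine isConj_iff.mpr ⟨g, ?_⟩
    rw [show g * (x * t) * g⁻¹ = (g * x * g⁻¹) * (g * t * g⁻¹) by simp [mul_assoc], hgx,
      hgt'.eq, mul_inv_cancel_right, mul_inv_rev, ht2]
    exact hxt'.inv_left.eq
  have hz2 : (x * t) ^ 2 ≠ 1 := by
    rw [hxt'.mul_pow, sq t, Small.mul_self_of_orderOf_two ht.1, mul_one]
    exact sq_ne_one_of_odd hx1' hxo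
  apply ht.2.1
  rw [idx, Subgroup.index_eq_one, eq_top_iff]
  intro k _
  obtain ⟨c, hc, hck⟩ := exists_conj_of_real h2 hd hz hz2 ht k
  obtain ⟨o, ho⟩ := hxo
  have hpow : (x * t) ^ orderOf x = t := by
    rw [hxt'.mul_pow, pow_orderOf_eq_one, one_mul, ho, pow_succ, pow_mul, sq,
      Small.mul_self_of_orderOf_two ht.1, one_pow, one_mul]
  have hct : Commute c t := hpow ▸ hc.pow_right _
  refine Subgroup.mem_centralizer_singleton_iff.mpr ?_
  rw [hct.eq, mul_inv_cancel_right] at hck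
  exact mul_inv_eq_iff_eq_mul.mp hck.symm

/-- The conjugates of a `π`-involution commute when there is no normal subgroup of odd order. -/
theorem commute_conj (hO : ∀ O : Subgroup G, O.Normal → Odd (Nat.card O) → O = ⊥) {t : G}
    (ht : PiInv π t) (g k : G) : Commute (g * t * g⁻¹) (k * t * k⁻¹) := by
  classical
  haveI : Fact (Nat.Prime 2) := ⟨Nat.prime_two⟩
  obtain ⟨N, hN, hN2, htN⟩ := exists_normal_two_of_no_inverted ht.1 fun g z hz hz1 hzo hzi => by
    have hz2 := sq_ne_one_of_odd hz1 hzo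
    have hinv : ∀ a : G, (a * t * a⁻¹) * z * (a * t * a⁻¹)⁻¹ = z⁻¹ := by
      intro a
      obtain ⟨c, hc, hca⟩ := exists_conj_of_real h2 hd (isConj_iff.mpr ⟨t, hzi⟩) hz2 ht a
      rw [← hca, show c * t * c⁻¹ * z * (c * t * c⁻¹)⁻¹ = c * (t * (c⁻¹ * z * c) * t⁻¹) * c⁻¹ by
        simp [mul_assoc], show c⁻¹ * z * c = z by rw [mul_assoc, ← hc.eq, inv_mul_cancel_left], hzi,
        hc.inv_right.eq, mul_inv_cancel_right]
    let S : Set G := Set.range fun a => a * z * a⁻¹
    have hinv' : ∀ a b : G, (b * t * b⁻¹) * (a * z * a⁻¹) * (b * t * b⁻¹)⁻¹ = (a * z * a⁻¹)⁻¹ := by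
      intro a b
      have := hinv (a⁻¹ * b)
      rw [show (b * t * b⁻¹) * (a * z * a⁻¹) * (b * t * b⁻¹)⁻¹ =
        a * ((a⁻¹ * b * t * (a⁻¹ * b)⁻¹) * z * (a⁻¹ * b * t * (a⁻¹ * b)⁻¹)⁻¹) * a⁻¹ by
          simp [mul_assoc], this, ← conj_inv]
    have hcomm : ∀ u ∈ S, ∀ v ∈ S, u * v = v * u := by
      rintro _ ⟨a, rfl⟩ _ ⟨b, rfl⟩
      obtain ⟨i, hi⟩ := Subgroup.mem_zpowers_iff.mp hz
      -- `b z b⁻¹` is a power of a product of two conjugates of `t`
      have h1 := hinv' a b
      have h2' := hinv' a (b * g)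
      have hc : Commute (b * (t * (g * t * g⁻¹)) * b⁻¹) (a * z * a⁻¹) := by
        refine mul_inv_eq_iff_eq_mul.mp ?_
        rw [show b * (t * (g * t * g⁻¹)) * b⁻¹ = (b * t * b⁻¹) * (b * g * t * (b * g)⁻¹) by
          simp [mul_assoc]]
        rw [show ∀ p q w : G, p * q * w * (p * q)⁻¹ = p * (q * w * q⁻¹) * p⁻¹ from
          fun p q w => by simp [mul_assoc], h2', ← conj_inv, h1, inv_inv]
      have hc2 : Commute (b * z * b⁻¹) (a * z * a⁻¹) := by
        rw [← hi, ← conj_zpow, hi]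
        exact hc.zpow_left i
      exact hc2.eq.symm
    haveI : IsMulCommutative (Subgroup.closure S) := Subgroup.isMulCommutative_closure hcomm
    have hpow : ∀ u ∈ Subgroup.closure S, u ^ orderOf z = 1 := by
      intro u hu
      induction hu using Subgroup.closure_induction with
      | mem w hw => obtain ⟨a, rfl⟩ := hw; rw [conj_pow, pow_orderOf_eq_one]; simp
      | one => simp
      | mul p q hp hq ihp ihq =>
        have hc : Commute p q :=
          congrArg Subtype.val (mul_comm' (⟨p, hp⟩ : Subgroup.closure S) ⟨q, hq⟩)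
        rw [hc.mul_pow, ihp, ihq, one_mul]
      | inv p _ ih => rw [inv_pow, ih, inv_one]
    have hodd : Odd (Nat.card (Subgroup.closure S)) := by
      refine Nat.not_even_iff_odd.mp fun he => ?_
      obtain ⟨u, hu⟩ := exists_prime_orderOf_dvd_card' 2 (even_iff_two_dvd.mp he)
      have h1 : orderOf u ∣ orderOf z :=
        orderOf_dvd_of_pow_eq_one (Subtype.ext (hpow u u.2))
      rw [hu] at h1
      exact Nat.not_even_iff_odd.mpr hzo (even_iff_two_dvd.mpr h1)
    have hnorm : (Subgroup.closure S).Normal := ⟨fun u hu a => by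
      induction hu using Subgroup.closure_induction with
      | mem w hw =>
        obtain ⟨b, rfl⟩ := hw
        exact Subgroup.subset_closure ⟨a * b, by simp [mul_assoc]⟩
      | one => simp
      | mul p q _ _ ihp ihq =>
        rw [show a * (p * q) * a⁻¹ = (a * p * a⁻¹) * (a * q * a⁻¹) by simp [mul_assoc]]
        exact mul_mem ihp ihq
      | inv p _ ih => rw [← conj_inv]; exact inv_mem ih⟩
    have := hO _ hnorm hodd
    have hmem : z ∈ Subgroup.closure S := Subgroup.subset_closure ⟨1, by simp⟩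
    rw [this, Subgroup.mem_bot] at hmem
    exact hz1 hmem
  -- a Sylow subgroup centralizes each conjugate
  have hcent : ∀ a : G, ∀ n ∈ N, Commute n (a * t * a⁻¹) := by
    intro a n hn
    let C := Subgroup.centralizer ({t} : Set G)
    let P : Sylow 2 C := default
    let P' : Subgroup G := (P : Subgroup C).map C.subtype
    obtain ⟨R, hR⟩ := (P.2.map C.subtype).exists_le_sylow
    have hidx : ¬ 2 ∣ P'.index := by
      rw [Subgroup.index_map_subtype, Nat.prime_two.dvd_mul]
      rintro (h | h)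
      · exact P.not_dvd_index h
      · exact Nat.not_even_iff_odd.mpr (odd_idx h2 ht) (even_iff_two_dvd.mpr h)
    have hPR : P' = (R : Subgroup G) := by
      obtain ⟨i, hi⟩ := IsPGroup.iff_card.mp R.2
      refine le_antisymm hR (Subgroup.relIndex_eq_one.mp ?_)
      have h1 : P'.relIndex R ∣ 2 ^ i := hi ▸ Subgroup.relIndex_dvd_card P' R
      have h3 : P'.relIndex R ∣ P'.index := Subgroup.relIndex_mul_index hR ▸ dvd_mul_right _ _
      exact Nat.eq_one_of_dvd_coprimes
        ((Nat.coprime_two_left.mpr (Nat.not_even_iff_odd.mp fun he =>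
          hidx (even_iff_two_dvd.mp he))).pow_left i) h1 h3
    have hnP : a⁻¹ * n * a ∈ P' := by
      rw [hPR]
      refine hN2.le_sylow_of_normal R ?_
      simpa using hN.conj_mem n hn a⁻¹
    have hct : Commute (a⁻¹ * n * a) t :=
      Subgroup.mem_centralizer_singleton_iff.mp (Subgroup.map_subtype_le _ hnP)
    calc n * (a * t * a⁻¹) = a * ((a⁻¹ * n * a) * t) * a⁻¹ := by simp [mul_assoc]
      _ = a * (t * (a⁻¹ * n * a)) * a⁻¹ := by rw [hct.eq]
      _ = a * t * a⁻¹ * n := by simp [mul_assoc]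
  exact hcent k _ (hN.conj_mem t htN g)

omit hd in
/-- The hypotheses pass to a quotient by a normal subgroup of odd order. -/
theorem dich_quotient (hd : Dich π G) (O : Subgroup G) [O.Normal] (hO : Odd (Nat.card O)) :
    Dich π (G ⧸ O) := by
  intro x hx p q hp hq hpx hqx hpπ
  obtain ⟨y, rfl, hy⟩ := exists_real_lift_of_odd_kernel O hO hx
  have hdvd : idx (QuotientGroup.mk y : G ⧸ O) ∣ idx y := by
    refine (Subgroup.index_dvd_of_le ?_).trans
      (Subgroup.index_map_dvd (H := Subgroup.centralizer ({y} : Set G))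
        (QuotientGroup.mk'_surjective O))
    rintro _ ⟨c, hc, rfl⟩
    refine Subgroup.mem_centralizer_singleton_iff.mpr ?_
    show (QuotientGroup.mk c : G ⧸ O) * QuotientGroup.mk y = QuotientGroup.mk y * QuotientGroup.mk c
    rw [← QuotientGroup.mk_mul, Subgroup.mem_centralizer_singleton_iff.mp hc, QuotientGroup.mk_mul]
  exact hd y hy p q hp hq (hpx.trans hdvd) (hqx.trans hdvd) hpπ

/-- The core of the argument. -/
theorem isSolvable_step (hO : ∀ O : Subgroup G, O.Normal → Odd (Nat.card O) → O = ⊥) {t : G}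
    (ht : PiInv π t) : Group.IsSolvable G := by
  classical
  haveI : Fintype G := Fintype.ofFinite G
  haveI : Fact (Nat.Prime 2) := ⟨Nat.prime_two⟩
  let E : Subgroup G := Subgroup.closure (cls t)
  have hgen : ∀ u ∈ cls t, ∀ v ∈ cls t, u * v = v * u := by
    rintro _ ⟨a, rfl⟩ _ ⟨b, rfl⟩
    exact (commute_conj h2 hd hO ht a b).eq
  haveI hEc : IsMulCommutative E := Subgroup.isMulCommutative_closure hgen
  haveI hEn : E.Normal := ⟨fun u hu a => by
    induction hu using Subgroup.closure_induction with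
    | mem w hw =>
      obtain ⟨b, rfl⟩ := hw
      exact Subgroup.subset_closure ⟨a * b, by simp [mul_assoc]⟩
    | one => simp
    | mul p q _ _ ihp ihq =>
      rw [show a * (p * q) * a⁻¹ = (a * p * a⁻¹) * (a * q * a⁻¹) by simp [mul_assoc]]
      exact mul_mem ihp ihq
    | inv p _ ih => rw [← conj_inv]; exact inv_mem ih⟩
  have hEsq : ∀ u ∈ E, u * u = 1 := by
    intro u hu
    induction hu using Subgroup.closure_induction with
    | mem w hw =>
      obtain ⟨b, rfl⟩ := hw
      rw [show b * t * b⁻¹ * (b * t * b⁻¹) = b * (t * t) * b⁻¹ by simp [mul_assoc],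
        Small.mul_self_of_orderOf_two ht.1]
      simp
    | one => simp
    | mul p q hp hq ihp ihq =>
      have hc : Commute p q := congrArg Subtype.val (mul_comm' (⟨p, hp⟩ : E) ⟨q, hq⟩)
      rw [← mul_assoc, mul_assoc p q p, ← hc.eq, ← mul_assoc, ihp, one_mul, ihq]
    | inv p _ ih => rw [← mul_inv_rev, ih, inv_one]
  have hclsE : ∀ u ∈ E, cls u ⊆ E := by
    rintro u hu _ ⟨a, rfl⟩
    exact hEn.conj_mem u hu a
  have hCEle : ∀ u ∈ E, Subgroup.centralizer (E : Set G) ≤ Subgroup.centralizer ({u} : Set G) :=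
    fun u hu c hc => Subgroup.mem_centralizer_singleton_iff.mpr
      (Subgroup.mem_centralizer_iff.mp hc u hu).symm
  have htE : t ∈ E := Subgroup.subset_closure ⟨1, by simp⟩
  have hsolv : ∀ {u : G}, PiInv π u → Group.IsSolvable (Subgroup.centralizer ({u} : Set G)) :=
    fun hu => isSolvable_of_noOddReal (noOddReal_centralizer h2 hd hu)
  haveI hCE : Group.IsSolvable (Subgroup.centralizer (E : Set G)) := by
    haveI := hsolv ht
    exact Group.isSolvable_of_isSolvable_injective (Subgroup.inclusion_injective (hCEle t htE))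
  by_cases hno : RealElements.NoOddReal (G ⧸ Subgroup.centralizer (E : Set G))
  · exact (Group.isSolvable_iff_subgroup_quotient _).mpr
      ⟨hCE, isSolvable_of_noOddReal hno⟩
  -- a real element of odd order acting nontrivially, of minimal order
  let X := Finset.univ.filter fun x : G =>
    IsConj x x⁻¹ ∧ Odd (orderOf x) ∧ x ∉ Subgroup.centralizer (E : Set G)
  have hX : X.Nonempty := by
    simp only [RealElements.NoOddReal, not_forall, not_not] at hno
    obtain ⟨x, hx1, hxo, hxr⟩ := hno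
    obtain ⟨y, rfl, hy, hyo⟩ := exists_real_odd_lift _ hxr hxo
    exact ⟨y, Finset.mem_filter.mpr ⟨Finset.mem_univ _, hy, hyo,
      fun h => hx1 ((QuotientGroup.eq_one_iff y).mpr h)⟩⟩
  obtain ⟨x, hxX, hxmin⟩ := X.exists_min_image orderOf hX
  simp only [X, Finset.mem_filter, Finset.mem_univ, true_and] at hxX hxmin
  obtain ⟨hxr, hxo, hxE⟩ := hxX
  have hx1 : x ≠ 1 := fun e => hxE (e ▸ one_mem _)
  have hxne : orderOf x ≠ 1 := by rwa [Ne, orderOf_eq_one_iff]
  let p := (orderOf x).minFac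
  have hp : p.Prime := Nat.minFac_prime hxne
  have hpd : p ∣ orderOf x := Nat.minFac_dvd _
  haveI : Fact p.Prime := ⟨hp⟩
  have hxp : x ^ p ∈ Subgroup.centralizer (E : Set G) := by
    by_contra hc
    have hlt : orderOf (x ^ p) < orderOf x := by
      rw [orderOf_pow_of_dvd hp.ne_zero hpd]
      exact Nat.div_lt_self (orderOf_pos x) hp.one_lt
    obtain ⟨a, ha⟩ := isConj_iff.mp hxr
    exact absurd (hxmin (x ^ p) ⟨isConj_iff.mpr ⟨a, by rw [← conj_pow, ha, inv_pow]⟩,
      hxo.of_dvd_nat (orderOf_pow_dvd p), hc⟩) (not_le.mpr hlt)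
  obtain ⟨g, ⟨j, hgj⟩, hgx⟩ := RealElements.exists_two_element_inverting hxr
  -- a fixed point of the inverting element
  obtain ⟨t₁, ⟨a₁, rfl⟩, hgt₁⟩ : ∃ t₁ ∈ cls t, g * t₁ * g⁻¹ = t₁ := by
    let σ : Equiv.Perm (cls t) :=
      { toFun := fun u => ⟨g * u * g⁻¹, by
          obtain ⟨_, b, rfl⟩ := u; exact ⟨g * b, by simp [mul_assoc]⟩⟩
        invFun := fun u => ⟨g⁻¹ * u * g, by
          obtain ⟨_, b, rfl⟩ := u; exact ⟨g⁻¹ * b, by simp [mul_assoc]⟩⟩
        left_inv := fun u => Subtype.ext (by simp [mul_assoc])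
        right_inv := fun u => Subtype.ext (by simp [mul_assoc]) }
    have hiter : ∀ n : ℕ, ∀ u : cls t, ((σ ^ n) u : G) = g ^ n * u * (g ^ n)⁻¹ := by
      intro n
      induction n with
      | zero => intro u; simp
      | succ n ih =>
        intro u
        rw [pow_succ, Equiv.Perm.mul_apply, ih]
        simp [σ, pow_succ, mul_assoc]
    have hσ : σ ^ 2 ^ j = 1 := by
      ext u
      rw [hiter, ← hgj, pow_orderOf_eq_one]
      simp
    obtain ⟨u, hu⟩ := Equiv.Perm.exists_fixed_point_of_prime (p := 2) (n := j) (α := cls t) (by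
      rw [← Nat.card_eq_fintype_card, card_cls, ← even_iff_two_dvd]
      exact Nat.not_even_iff_odd.mpr (odd_idx h2 ht)) hσ
    exact ⟨u, u.2, congrArg Subtype.val hu⟩
  set t₁ := a₁ * t * a₁⁻¹ with ht₁def
  have hcls : cls t₁ = cls t := by
    ext u
    constructor
    · rintro ⟨b, rfl⟩; exact ⟨b * a₁, by simp [t₁, mul_assoc]⟩
    · rintro ⟨b, rfl⟩; exact ⟨b * a₁⁻¹, by simp [t₁, mul_assoc]⟩
  have ht₁ : PiInv π t₁ := by
    have hi : idx t₁ = idx t := by rw [← card_cls, ← card_cls, hcls]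
    exact ⟨by rw [ht₁def, Small.orderOf_conj_eq, ht.1], hi ▸ ht.2.1, hi ▸ ht.2.2⟩
  have ht₁E : t₁ ∈ E := Subgroup.subset_closure ⟨a₁, rfl⟩
  have hxt₁ : ¬ Commute x t₁ := fun hc => by
    refine noOddReal_centralizer h2 hd ht₁
      ⟨x, Subgroup.mem_centralizer_singleton_iff.mpr hc.eq⟩ (fun e => hx1 (congrArg Subtype.val e))
      (by rwa [Subgroup.orderOf_mk]) ?_
    exact isConj_iff.mpr ⟨⟨g, Subgroup.mem_centralizer_singleton_iff.mpr
      (mul_inv_eq_iff_eq_mul.mp hgt₁)⟩, Subtype.ext hgx⟩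
  -- the norm map of `x` on `E`
  letI : CommGroup E := { (inferInstance : Group E) with mul_comm := fun a b => mul_comm' a b }
  haveI : Fintype (Subgroup.zpowers x) := Fintype.ofFinite _
  let ν : E →* E := ∏ y : Subgroup.zpowers x, (MulAut.conjNormal (H := E) (y : G)).toMonoidHom
  have hν : ∀ u : E, ν u = ∏ y : Subgroup.zpowers x, MulAut.conjNormal (H := E) (y : G) u :=
    fun u => MonoidHom.finsetProd_apply _ _ u
  have hfix : ∀ u : E, Commute x (u : G) → ν u = u := by
    intro u hu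
    rw [hν]
    have h1 : ∀ y : Subgroup.zpowers x, MulAut.conjNormal (H := E) (y : G) u = u := by
      intro y
      obtain ⟨i, hi⟩ := Subgroup.mem_zpowers_iff.mp y.2
      apply Subtype.ext
      rw [MulAut.conjNormal_apply, ← hi]
      exact mul_inv_eq_iff_eq_mul.mpr (hu.zpow_left i).eq
    simp only [h1, Finset.prod_const, Finset.card_univ]
    rw [← Nat.card_eq_fintype_card, Nat.card_zpowers]
    obtain ⟨o, ho⟩ := hxo
    rw [ho, pow_succ, pow_mul, sq, show u * u = 1 from Subtype.ext (hEsq u u.2), one_pow, one_mul]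
  have hνx : ∀ u : E, Commute x (ν u : G) := by
    intro u
    have h1 : MulAut.conjNormal (H := E) x (ν u) = ν u := by
      rw [hν, map_prod]
      refine Fintype.prod_equiv (Equiv.mulLeft (⟨x, Subgroup.mem_zpowers x⟩ : Subgroup.zpowers x))
        _ _ fun y => ?_
      rw [Equiv.coe_mulLeft, Subgroup.coe_mul, map_mul]
      rfl
    have := congrArg Subtype.val h1
    rw [MulAut.conjNormal_apply] at this
    exact mul_inv_eq_iff_eq_mul.mp this
  have hνconj : ∀ k : G, Commute k x → ∀ u : E,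
      MulAut.conjNormal (H := E) k (ν u) = ν (MulAut.conjNormal (H := E) k u) := by
    intro k hk u
    rw [hν, hν, map_prod]
    refine Finset.prod_congr rfl fun y _ => ?_
    obtain ⟨i, hi⟩ := Subgroup.mem_zpowers_iff.mp y.2
    rw [← MulAut.mul_apply, ← map_mul, ← MulAut.mul_apply, ← map_mul, ← hi, (hk.zpow_right i).eq]
  have hνinv : ∀ u : E, MulAut.conjNormal (H := E) g (ν u) =
      ν (MulAut.conjNormal (H := E) g u) := by
    intro u
    rw [hν, hν, map_prod]
    refine Fintype.prod_equiv (Equiv.inv (Subgroup.zpowers x)) _ _ fun y => ?_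
    obtain ⟨i, hi⟩ := Subgroup.mem_zpowers_iff.mp y.2
    rw [← MulAut.mul_apply, ← map_mul, ← MulAut.mul_apply, ← map_mul]
    congr 2
    rw [Equiv.inv_apply, Subgroup.coe_inv, ← hi]
    refine mul_inv_eq_iff_eq_mul.mp ?_
    rw [← conj_zpow, hgx, inv_zpow]
  let τ : E := ⟨t₁, ht₁E⟩
  set c : E := ν τ with hcdef
  have hxc : Commute x (c : G) := hνx τ
  have hgc : g * (c : G) * g⁻¹ = c := by
    have h1 := congrArg Subtype.val (hνinv τ)
    rw [MulAut.conjNormal_apply] at h1
    rw [hcdef, h1, show MulAut.conjNormal (H := E) g τ = τ from Subtype.ext hgt₁]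
  have hcsq : (c : G) * c = 1 := hEsq c c.2
  obtain ⟨o, ho⟩ := id hxo
  have hxc2 : (x * (c : G)) ^ 2 ≠ 1 := by
    rw [hxc.mul_pow, sq (c : G), hcsq, mul_one]
    exact sq_ne_one_of_odd hx1 hxo
  have hxcr : IsConj (x * (c : G)) (x * (c : G))⁻¹ := by
    refine isConj_iff.mpr ⟨g, ?_⟩
    rw [show g * (x * (c : G)) * g⁻¹ = (g * x * g⁻¹) * (g * c * g⁻¹) by simp [mul_assoc], hgx, hgc,
      mul_inv_rev, inv_eq_of_mul_eq_one_right hcsq]
    exact hxc.inv_left.eq
  have hsplit : ∀ k : G, Commute k (x * (c : G)) → Commute k x ∧ Commute k (c : G) := by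
    intro k hk
    have hm : (x * (c : G)) ^ orderOf x = c := by
      rw [hxc.mul_pow, pow_orderOf_eq_one, one_mul, ho, pow_succ, pow_mul, sq, hcsq, one_pow,
        one_mul]
    have hkc : Commute k (c : G) := hm ▸ hk.pow_right _
    refine ⟨?_, hkc⟩
    have := hk.mul_right hkc.inv_right
    rwa [mul_inv_cancel_right] at this
  have hνT : ∀ u : E, (u : G) ∈ cls t₁ → ν u = c := by
    rintro ⟨_, hu⟩ ⟨b, rfl⟩
    obtain ⟨k, hk, hkb⟩ := exists_conj_of_real h2 hd hxcr hxc2 ht₁ b
    obtain ⟨hkx, hkc⟩ := hsplit k hk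
    have h1 : MulAut.conjNormal (H := E) k τ = ⟨b * t₁ * b⁻¹, hu⟩ := Subtype.ext hkb
    rw [← h1, ← hνconj k hkx, ← hcdef]
    exact Subtype.ext (mul_inv_eq_iff_eq_mul.mpr hkc.eq)
  have hν1c : ∀ u : E, ν u = 1 ∨ ν u = c := by
    intro u
    obtain ⟨u, hu⟩ := u
    induction hu using Subgroup.closure_induction with
    | mem w hw => exact Or.inr (hνT _ (by rw [hcls]; exact hw))
    | one => exact Or.inl (map_one ν)
    | mul q r hq hr ihq ihr =>
      have e : (⟨q * r, mul_mem hq hr⟩ : E) = ⟨q, hq⟩ * ⟨r, hr⟩ := rfl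
      rw [e, map_mul]
      rcases ihq with e1 | e1 <;> rcases ihr with e2 | e2 <;> rw [e1, e2]
      · exact Or.inl (one_mul _)
      · exact Or.inr (one_mul _)
      · exact Or.inr (mul_one _)
      · exact Or.inl (Subtype.ext hcsq)
    | inv q hq ihq =>
      have e : (⟨q⁻¹, inv_mem hq⟩ : E) = ⟨q, hq⟩⁻¹ := rfl
      rw [e, map_inv]
      rcases ihq with e1 | e1 <;> rw [e1]
      · exact Or.inl inv_one
      · exact Or.inr (Subtype.ext (inv_eq_of_mul_eq_one_right hcsq))
  -- `x` permutes every class in `E` in orbits of size `1` or `p`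
  have hdvd : ∀ u ∈ E, (∀ w ∈ cls u, ¬ Commute x w) → p ∣ idx u := by
    intro u hu hno'
    let σ : Equiv.Perm (cls u) :=
      { toFun := fun w => ⟨x * w * x⁻¹, by
          obtain ⟨_, b, rfl⟩ := w; exact ⟨x * b, by simp [mul_assoc]⟩⟩
        invFun := fun w => ⟨x⁻¹ * w * x, by
          obtain ⟨_, b, rfl⟩ := w; exact ⟨x⁻¹ * b, by simp [mul_assoc]⟩⟩
        left_inv := fun w => Subtype.ext (by simp [mul_assoc])
        right_inv := fun w => Subtype.ext (by simp [mul_assoc]) }
    have hiter : ∀ n : ℕ, ∀ w : cls u, ((σ ^ n) w : G) = x ^ n * w * (x ^ n)⁻¹ := by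
      intro n
      induction n with
      | zero => intro w; simp
      | succ n ih =>
        intro w
        rw [pow_succ, Equiv.Perm.mul_apply, ih]
        simp [σ, pow_succ, mul_assoc]
    have hσ : σ ^ p ^ 1 = 1 := by
      ext w
      rw [pow_one, hiter]
      exact mul_inv_eq_iff_eq_mul.mpr
        (Subgroup.mem_centralizer_iff.mp hxp w (hclsE u hu w.2)).symm
    by_contra hndvd
    obtain ⟨w, hw⟩ := Equiv.Perm.exists_fixed_point_of_prime (p := p) (n := 1) (α := cls u)
      (by rwa [← Nat.card_eq_fintype_card, card_cls]) hσ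
    exact hno' w w.2 (mul_inv_eq_iff_eq_mul.mp (congrArg Subtype.val hw))
  have hpi : ∀ u ∈ E, u ≠ 1 → p ∈ π → p ∣ idx u → PiInv π u := fun u hu hu1 hpπ hpu =>
    ⟨orderOf_eq_prime (by rw [sq, hEsq u hu]) hu1, fun e => hp.ne_one (Nat.dvd_one.mp (e ▸ hpu)),
      fun q hq hqu => hd u (isConj_self_inv_of_sq (hEsq u hu)) p q hp hq hpu hqu hpπ⟩
  have hcop : c ≠ 1 → (idx (c : G)).Coprime (idx t₁) := by
    intro _
    have heven : 2 ∣ idx (x * (c : G)) := even_iff_two_dvd.mp (Nat.not_odd_iff_even.mp fun ho =>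
      hxc2 (RealElements.sq_eq_one_of_odd_index hxcr ho))
    refine Nat.coprime_of_dvd fun q hq h1 h3 => h2 (hd _ hxcr q 2 hq Nat.prime_two (h1.trans ?_)
      heven (ht₁.2.2 q hq h3))
    exact Subgroup.index_dvd_of_le fun k hk => Subgroup.mem_centralizer_singleton_iff.mpr
      (hsplit k (Subgroup.mem_centralizer_singleton_iff.mp hk)).2.eq
  have hpπ : p ∈ π := by
    refine ht₁.2.2 p hp (hdvd t₁ ht₁E fun w hw hcw => ?_)
    obtain ⟨b, rfl⟩ := hw
    have hwE : b * t₁ * b⁻¹ ∈ E := hclsE t₁ ht₁E ⟨b, rfl⟩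
    have h1 := hfix ⟨_, hwE⟩ hcw
    rw [hνT ⟨_, hwE⟩ ⟨b, rfl⟩] at h1
    have hcw' : (c : G) = b * t₁ * b⁻¹ := congrArg Subtype.val h1
    have hcc : cls (c : G) = cls t₁ := by
      rw [hcw']
      ext u
      constructor
      · rintro ⟨a, rfl⟩; exact ⟨a * b, by simp [mul_assoc]⟩
      · rintro ⟨a, rfl⟩; exact ⟨a * b⁻¹, by simp [mul_assoc]⟩
    have hi : idx (c : G) = idx t₁ := by rw [← card_cls, ← card_cls, hcc]
    have := hcop fun e => Small.ne_one_of_orderOf_two ht₁.1 (by
      rw [e, Subgroup.coe_one] at hcw'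
      simpa using hcw'.symm)
    rw [hi, Nat.coprime_self] at this
    exact ht₁.2.1 this
  -- the projection `d` of `t₁` on `[E, x]`
  set d : E := τ * c with hddef
  have hd1 : d ≠ 1 := by
    intro e
    refine hxt₁ ?_
    have : t₁ = ((c⁻¹ : E) : G) := congrArg Subtype.val (mul_eq_one_iff_eq_inv.mp e)
    rw [this]
    exact hxc.inv_right
  have hνd : ν d = 1 := by
    rw [hddef, map_mul, hfix c hxc, ← hcdef]
    exact Subtype.ext hcsq
  have hdG : (d : G) ≠ 1 := fun e => hd1 (Subtype.ext e)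
  have hdfix : ∀ w ∈ cls (d : G), ¬ Commute x w := by
    rintro _ ⟨b, rfl⟩ hw
    have hwE : b * (d : G) * b⁻¹ ∈ E := hEn.conj_mem _ d.2 b
    have hwc : ν ⟨_, hwE⟩ = c := by
      refine (hν1c _).resolve_left fun h1 => hdG ?_
      have := congrArg Subtype.val ((hfix ⟨_, hwE⟩ hw).symm.trans h1)
      simpa using this
    have hbc : b * (d : G) * b⁻¹ = c := congrArg Subtype.val ((hfix ⟨_, hwE⟩ hw).symm.trans hwc)
    by_cases hc1 : c = 1
    · rw [hc1, Subgroup.coe_one] at hbc
      exact hdG (by simpa using hbc)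
    -- `cls c` is invariant under translation by `E`
    have hdU : (d : G) ∈ cls (c : G) := ⟨b⁻¹, by rw [← hbc]; simp [mul_assoc]⟩
    have htU : ∀ a : G, ∀ u ∈ cls (c : G), (a * t₁ * a⁻¹) * u ∈ cls (c : G) := by
      intro a u hu
      obtain ⟨b', rfl⟩ := hu
      obtain ⟨h', hh', k, hk, he⟩ := SingularClassGraph.exists_mul_of_coprime_index
        (hcop hc1).symm (a⁻¹ * b')
      obtain ⟨b₀, hb₀⟩ := hdU
      refine ⟨a * h' * b₀, ?_⟩
      have hb₀' : b₀ * (c : G) * b₀⁻¹ = t₁ * c := hb₀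
      have hh := SingularClassGraph.conj_eq_of_mem_cent hh'
      have hkc := SingularClassGraph.conj_eq_of_mem_cent hk
      have hb' : b' = a * (h' * k) := by rw [← he, mul_inv_cancel_left]
      calc a * h' * b₀ * (c : G) * (a * h' * b₀)⁻¹
          = a * (h' * (b₀ * (c : G) * b₀⁻¹) * h'⁻¹) * a⁻¹ := by simp [mul_assoc]
        _ = a * ((h' * t₁ * h'⁻¹) * (h' * c * h'⁻¹)) * a⁻¹ := by rw [hb₀']; simp [mul_assoc]
        _ = a * t₁ * a⁻¹ * (a * (h' * (k * c * k⁻¹) * h'⁻¹) * a⁻¹) := by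
            rw [hh, hkc]; simp [mul_assoc]
        _ = a * t₁ * a⁻¹ * (b' * c * b'⁻¹) := by rw [hb']; simp [mul_assoc]
    have hEU : ∀ q ∈ E, ∀ u ∈ cls (c : G), q * u ∈ cls (c : G) := by
      intro q hq
      induction hq using Subgroup.closure_induction with
      | mem w hw =>
        obtain ⟨a, rfl⟩ := hcls ▸ hw
        exact htU a
      | one => intro u hu; rwa [one_mul]
      | mul q r _ _ ihq ihr => intro u hu; rw [mul_assoc]; exact ihq _ (ihr u hu)
      | inv q hq ihq =>
        intro u hu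
        rw [inv_eq_of_mul_eq_one_right (hEsq q hq)]
        exact ihq u hu
    obtain ⟨b₁, hb₁⟩ := hEU c c.2 c ⟨1, by simp⟩
    have hb₁' : b₁ * (c : G) * b₁⁻¹ = (c : G) * c := hb₁
    rw [hcsq, conj_eq_one_iff] at hb₁'
    exact hc1 (Subtype.ext hb₁')
  have hdp : PiInv π (d : G) := hpi _ d.2 hdG hpπ (hdvd _ d.2 hdfix)
  have hνcls : ∀ u : E, (u : G) ∈ cls (d : G) → ν u = 1 := by
    rintro ⟨_, hu⟩ ⟨b, rfl⟩
    obtain ⟨k, hk, hkb⟩ := exists_conj_of_real h2 hd hxr (sq_ne_one_of_odd hx1 hxo) hdp b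
    have h1 : MulAut.conjNormal (H := E) k d = ⟨b * d * b⁻¹, hu⟩ := Subtype.ext hkb
    rw [← h1, ← hνconj k hk, hνd, map_one]
  -- a minimal normal subgroup in the normal closure of `d`
  let E₁ : Subgroup G := Subgroup.closure (cls (d : G))
  have hE₁ : E₁ ≤ ν.ker.map E.subtype := by
    rw [Subgroup.closure_le]
    intro w hw
    exact ⟨⟨w, hclsE _ d.2 hw⟩, hνcls ⟨w, hclsE _ d.2 hw⟩ hw, rfl⟩
  have hE₁n : E₁.Normal := ⟨fun u hu a => by
    induction hu using Subgroup.closure_induction with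
    | mem w hw =>
      obtain ⟨b, rfl⟩ := hw
      exact Subgroup.subset_closure ⟨a * b, by simp [mul_assoc]⟩
    | one => simp
    | mul p q _ _ ihp ihq =>
      rw [show a * (p * q) * a⁻¹ = (a * p * a⁻¹) * (a * q * a⁻¹) by simp [mul_assoc]]
      exact mul_mem ihp ihq
    | inv p _ ih => rw [← conj_inv]; exact inv_mem ih⟩
  obtain ⟨M, ⟨hMn, hMne, hME₁⟩, hMmin⟩ := exists_minimal_of_wellFoundedLT
    (fun H : Subgroup G => H.Normal ∧ H ≠ ⊥ ∧ H ≤ E₁) ⟨E₁, hE₁n, fun e => hdG (by
      have : (d : G) ∈ E₁ := Subgroup.subset_closure ⟨1, by simp⟩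
      rwa [e, Subgroup.mem_bot] at this), le_rfl⟩
  haveI := hMn
  have hMker : ∀ u ∈ M, ∃ hu : u ∈ E, ν ⟨u, hu⟩ = 1 := by
    intro u hu
    obtain ⟨⟨u', hu'⟩, hu'', rfl⟩ := hE₁ (hME₁ hu)
    exact ⟨hu', hu''⟩
  have hME : M ≤ E := fun u hu => (hMker u hu).1
  have hMfix : ∀ u ∈ M, Commute x u → u = 1 := by
    intro u hu hc
    obtain ⟨huE, hν0⟩ := hMker u hu
    exact congrArg Subtype.val ((hfix ⟨u, huE⟩ hc).symm.trans hν0)
  have hMpi : ∀ u ∈ M, u ≠ 1 → PiInv π u := by
    intro u hu hu1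
    refine hpi u (hME hu) hu1 hpπ (hdvd u (hME hu) ?_)
    rintro _ ⟨b, rfl⟩ hc
    exact hu1 (by simpa using hMfix _ (hMn.conj_mem u hu b) hc)
  -- the linear group induced on `M`
  let ψ : G →* MulAut M := MulAut.conjNormal
  obtain ⟨m₀, hm₀, hm₀1⟩ : ∃ m₀ ∈ M, m₀ ≠ 1 := by
    by_contra hc
    push Not at hc
    exact hMne ((Subgroup.eq_bot_iff_forall M).mpr hc)
  haveI : Group.IsSolvable ψ.ker := by
    haveI := hsolv (hMpi m₀ hm₀ hm₀1)
    have hle : ψ.ker ≤ Subgroup.centralizer ({m₀} : Set G) := fun k hk => by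
      refine Subgroup.mem_centralizer_singleton_iff.mpr (mul_inv_eq_iff_eq_mul.mp ?_)
      have := congrArg Subtype.val (DFunLike.congr_fun (MonoidHom.mem_ker.mp hk) ⟨m₀, hm₀⟩)
      simpa [ψ, MulAut.conjNormal_apply] using this
    exact Group.isSolvable_of_isSolvable_injective (Subgroup.inclusion_injective hle)
  suffices Group.IsSolvable ψ.range by
    exact Group.isSolvable_of_ker_le_range ψ.ker.subtype ψ.rangeRestrict
      (by rw [MonoidHom.ker_rangeRestrict, Subgroup.range_subtype])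
  letI : CommGroup M :=
    { (inferInstance : Group M) with
      mul_comm := fun a b => Subtype.ext
        (congrArg Subtype.val (mul_comm (⟨(a : G), hME a.2⟩ : E) ⟨(b : G), hME b.2⟩) :) }
  letI : DistribMulAction ψ.range (Additive M) :=
    { smul := fun q m => Additive.ofMul ((q : MulAut M) m.toMul)
      one_smul := fun m => rfl
      mul_smul := fun q r m => rfl
      smul_zero := fun q => congrArg Additive.ofMul (map_one (q : MulAut M))
      smul_add := fun q m n => congrArg Additive.ofMul (map_mul (q : MulAut M) _ _) }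
  have hact : ∀ (k : G) (m : Additive M),
      ((((⟨ψ k, k, rfl⟩ : ψ.range) • m).toMul : M) : G) = k * (m.toMul : G) * k⁻¹ :=
    fun k m => MulAut.conjNormal_apply k m.toMul
  refine isSolvable_of_good (M := Additive M) ⟨?_, ?_, ?_, ?_, ?_, ?_⟩
  · exact fun m => congrArg Additive.ofMul (Subtype.ext (hEsq _ (hME m.toMul.2)))
  · exact ⟨Additive.ofMul ⟨m₀, hm₀⟩, fun e => hm₀1 (congrArg Subtype.val (congrArg Additive.toMul e))⟩
  · exact fun q hq => Subtype.ext (MulEquiv.ext fun m =>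
      congrArg Additive.toMul (hq (Additive.ofMul m)))
  · intro A hA
    let A' : Subgroup G := (AddSubgroup.toSubgroup' A).map M.subtype
    by_cases hbot : A = ⊥
    · exact Or.inl hbot
    refine Or.inr ?_
    have hA'n : A'.Normal := ⟨by
      rintro _ ⟨m, hm, rfl⟩ k
      exact ⟨((⟨ψ k, k, rfl⟩ : ψ.range) • Additive.ofMul m).toMul,
        hA (⟨ψ k, k, rfl⟩ : ψ.range) (Additive.ofMul m) hm,
        hact k (Additive.ofMul m)⟩⟩
    have hA'ne : A' ≠ ⊥ := fun e => hbot (by
      rw [AddSubgroup.eq_bot_iff_forall]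
      intro m hm
      have : (m.toMul : G) ∈ A' := ⟨m.toMul, hm, rfl⟩
      rw [e, Subgroup.mem_bot] at this
      exact congrArg Additive.ofMul (Subtype.ext this : m.toMul = 1))
    have := hMmin ⟨hA'n, hA'ne, (Subgroup.map_subtype_le _).trans hME₁⟩ (Subgroup.map_subtype_le _)
    rw [eq_top_iff]
    intro m _
    obtain ⟨m', hm', he⟩ := this m.toMul.2
    rw [show m = Additive.ofMul m' from congrArg Additive.ofMul (Subtype.ext he).symm]
    exact hm'
  · intro m hm
    have hm1 : (m.toMul : G) ≠ 1 := fun e => hm (congrArg Additive.ofMul (Subtype.ext e : m.toMul = 1))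
    have himg : (fun m : Additive M => (m.toMul : G)) '' MulAction.orbit ψ.range m =
        cls (m.toMul : G) := by
      ext w
      constructor
      · rintro ⟨_, ⟨⟨_, k, rfl⟩, rfl⟩, rfl⟩
        exact ⟨k, (hact k m).symm⟩
      · rintro ⟨k, rfl⟩
        exact ⟨_, ⟨⟨ψ k, k, rfl⟩, rfl⟩, hact k m⟩
    rw [← Nat.card_image_of_injective
      (fun a b h => Additive.toMul.injective (Subtype.ext h)) (MulAction.orbit ψ.range m), himg,
      card_cls]
    exact odd_idx h2 (hMpi _ m.toMul.2 hm1)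
  · intro z hz q m
    rcases eq_or_ne m 0 with rfl | hm
    · exact ⟨1, Commute.one_left z, by rw [smul_zero, smul_zero]⟩
    have hm1 : (m.toMul : G) ≠ 1 := fun e => hm (congrArg Additive.ofMul (Subtype.ext e : m.toMul = 1))
    obtain ⟨hz1, hzo, b, hb, hbz⟩ := hz
    let e := QuotientGroup.quotientKerEquivRange ψ
    obtain ⟨y, hy, hyr, hyo⟩ := exists_real_odd_lift ψ.ker (x := e.symm z)
      (isConj_iff.mpr ⟨e.symm b, by rw [← map_inv, ← map_mul, ← map_mul, ← map_inv, hbz]⟩)
      (by rwa [MulEquiv.orderOf_eq])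
    have hyz : (⟨ψ y, y, rfl⟩ : ψ.range) = z := by
      have := congrArg e hy
      rw [MulEquiv.apply_symm_apply] at this
      exact this
    have hy1 : y ≠ 1 := fun e' => hz1 (by rw [← hyz]; exact Subtype.ext (by simp [e']))
    obtain ⟨_, k, rfl⟩ := q
    obtain ⟨c', hc', hck⟩ := exists_conj_of_real h2 hd hyr (sq_ne_one_of_odd hy1 hyo)
      (hMpi _ m.toMul.2 hm1) k
    refine ⟨⟨ψ c', c', rfl⟩, ?_, ?_⟩
    · rw [← hyz]
      exact Subtype.ext (by rw [Subgroup.coe_mul, Subgroup.coe_mul, ← map_mul, ← map_mul, hc'.eq])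
    · exact Additive.toMul.injective (Subtype.ext (by rw [hact, hact, hck]))

omit hd h2 in
theorem isSolvable_aux (n : ℕ) : ∀ (G : Type u) [Group G] [Finite G], Nat.card G = n →
    ∀ π : Set ℕ, 2 ∉ π → Dich π G → ∀ t : G, PiInv π t → Group.IsSolvable G := by
  induction n using Nat.strong_induction_on with
  | _ n ih =>
    intro G _ _ hn π h2 hd t ht
    by_cases hO : ∀ O : Subgroup G, O.Normal → Odd (Nat.card O) → O = ⊥
    · exact isSolvable_step h2 hd hO ht
    push Not at hO
    obtain ⟨O, hOn, hOodd, hOne⟩ := hO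
    haveI := hOn
    haveI : Group.IsSolvable O := Cfsg.Agent.S0205.result hOodd
    refine (Group.isSolvable_iff_subgroup_quotient O).mpr ⟨inferInstance, ?_⟩
    let φ := QuotientGroup.mk' O
    have htO : φ t ≠ 1 := fun e => by
      have h1 := O.orderOf_dvd_natCard ((QuotientGroup.eq_one_iff t).mp e)
      rw [ht.1, ← even_iff_two_dvd] at h1
      exact Nat.not_even_iff_odd.mpr hOodd h1
    have hto : orderOf (φ t) = 2 := by
      refine orderOf_eq_prime ?_ htO
      rw [← map_pow, sq, Small.mul_self_of_orderOf_two ht.1, map_one]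
    have hdvd : idx (φ t) ∣ idx t := by
      refine (Subgroup.index_dvd_of_le ?_).trans
        (Subgroup.index_map_dvd (H := Subgroup.centralizer ({t} : Set G))
          (QuotientGroup.mk'_surjective O))
      rintro _ ⟨c, hc, rfl⟩
      refine Subgroup.mem_centralizer_singleton_iff.mpr ?_
      rw [← map_mul, Subgroup.mem_centralizer_singleton_iff.mp hc, map_mul]
    have hlt : Nat.card (G ⧸ O) < n := by
      rw [← hn, Subgroup.card_eq_card_quotient_mul_card_subgroup O]
      exact lt_mul_of_one_lt_right Nat.card_pos ((Subgroup.one_lt_card_iff_ne_bot O).mpr hOne)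
    by_cases h1 : idx (φ t) = 1
    · -- `G = O C(t)`
      haveI := isSolvable_of_noOddReal (noOddReal_centralizer h2 hd ht)
      refine Group.isSolvable_of_surjective
        (f := φ.comp (Subgroup.centralizer ({t} : Set G)).subtype) fun q => ?_
      obtain ⟨k, rfl⟩ := QuotientGroup.mk'_surjective O q
      have hk : orderOf (k * t * k⁻¹) = 2 := by rw [Small.orderOf_conj_eq, ht.1]
      have hmem : t * (k * t * k⁻¹) ∈ O := by
        rw [← QuotientGroup.eq_one_iff]
        show φ (t * (k * t * k⁻¹)) = 1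
        have hcen : φ k * φ t = φ t * φ k := by
          have : φ k ∈ Subgroup.centralizer ({φ t} : Set (G ⧸ O)) := by
            rw [Subgroup.index_eq_one.mp h1]; trivial
          exact Subgroup.mem_centralizer_singleton_iff.mp this
        rw [map_mul, map_mul, map_mul, map_inv, hcen, mul_inv_cancel_right, ← map_mul,
          Small.mul_self_of_orderOf_two ht.1, map_one]
      obtain ⟨i, hi⟩ := Small.conj_pow_eq_of_odd ht.1 hk
        (hOodd.of_dvd_nat (O.orderOf_dvd_natCard hmem))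
      refine ⟨⟨((t * (k * t * k⁻¹)) ^ i)⁻¹ * k, ?_⟩, ?_⟩
      · refine Subgroup.mem_centralizer_singleton_iff.mpr (mul_inv_eq_iff_eq_mul.mp ?_)
        generalize (t * (k * t * k⁻¹)) ^ i = w at hi
        rw [show w⁻¹ * k * t * (w⁻¹ * k)⁻¹ = w⁻¹ * (k * t * k⁻¹) * w by simp [mul_assoc], ← hi]
        simp [mul_assoc]
      · show φ (((t * (k * t * k⁻¹)) ^ i)⁻¹ * k) = φ k
        have h0 : φ (t * (k * t * k⁻¹)) = 1 := (QuotientGroup.eq_one_iff _).mpr hmem
        rw [map_mul, map_inv, map_pow, h0, one_pow, inv_one, one_mul]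
    · exact ih _ hlt (G ⧸ O) rfl π h2 (dich_quotient h2 hd O hOodd) (φ t)
        ⟨hto, h1, fun q hq hqt => ht.2.2 q hq (hqt.trans hdvd)⟩

omit hd h2 in
/-- If the real class size graph is disconnected, the group is solvable. -/
theorem isSolvable_of_disconnected {G : Type u} [Group G] [Finite G] {π₁ π₂ : Set ℕ}
    (h₁ : π₁.Nonempty) (h₂ : π₂.Nonempty)
    (hcover : ∀ q : ℕ, q.Prime → ∀ x : G, IsConj x x⁻¹ → q ∣ idx x → q ∈ π₁ ∨ q ∈ π₂)
    (hsub : ∀ q ∈ π₁ ∪ π₂, q.Prime ∧ ∃ x : G, IsConj x x⁻¹ ∧ q ∣ idx x)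
    (hdisj : Disjoint π₁ π₂)
    (hnoedge : ∀ a ∈ π₁, ∀ b ∈ π₂, ∀ x : G, IsConj x x⁻¹ → ¬ (a ∣ idx x ∧ b ∣ idx x)) :
    Group.IsSolvable G := by
  have key : ∀ σ : Set ℕ, σ.Nonempty → 2 ∉ σ → Dich σ G →
      (∀ q ∈ σ, q.Prime ∧ ∃ x : G, IsConj x x⁻¹ ∧ q ∣ idx x) → Group.IsSolvable G := by
    intro σ ⟨q, hq⟩ h2 hd hs
    obtain ⟨hqp, x, hx, hqx⟩ := hs q hq
    have hall : ∀ p : ℕ, p.Prime → p ∣ idx x → p ∈ σ := fun p hp hpx =>
      hd x hx q p hqp hp hqx hpx hq
    have hne : idx x ≠ 1 := fun e => hqp.ne_one (Nat.dvd_one.mp (e ▸ hqx))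
    have hodd : Odd (idx x) := Nat.not_even_iff_odd.mp fun he =>
      h2 (hall 2 Nat.prime_two (even_iff_two_dvd.mp he))
    have hx2 : orderOf x = 2 := by
      refine orderOf_eq_prime (RealElements.sq_eq_one_of_odd_index hx hodd) fun e => hne ?_
      rw [idx, Subgroup.index_eq_one, eq_top_iff]
      intro k _
      rw [Subgroup.mem_centralizer_singleton_iff, e, one_mul, mul_one]
    exact isSolvable_aux _ G rfl σ h2 hd x ⟨hx2, hne, hall⟩
  by_cases h22 : 2 ∈ π₂
  · refine key π₁ h₁ (fun h21 => Set.disjoint_left.mp hdisj h21 h22) ?_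
      fun q hq => hsub q (Or.inl hq)
    intro x hx p q hp hq hpx hqx hpπ
    exact (hcover q hq x hx hqx).resolve_right fun h => hnoedge p hpπ q h x hx ⟨hpx, hqx⟩
  · refine key π₂ h₂ h22 ?_ fun q hq => hsub q (Or.inr hq)
    intro x hx p q hp hq hpx hqx hpπ
    exact (hcover q hq x hx hqx).resolve_left fun h => hnoedge q h p hpπ x hx ⟨hqx, hpx⟩

end CfsgLib.RealClassGraph
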