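import Cfsg.Agent.RealClassGraph.Main

/-!
# The subgroup generated by the 2-elements of a group with disconnected real class size graph
-/

set_option autoImplicit false

namespace CfsgLib.RealClassGraph

open scoped commutatorElement

universe u

/-- The relative index in a normal subgroup divides the index. -/
theorem relIndex_dvd_index_normal {H : Type u} [Group H] [Finite H] (C N : Subgroup H) [N.Normal] :
    C.relIndex N ∣ C.index := by
  have h1 : N.relIndex C * C.index = (C ⊓ N).index := by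
    rw [← Subgroup.inf_relIndex_left, Subgroup.relIndex_mul_index inf_le_left]
  have h2 : C.relIndex N * N.index = (C ⊓ N).index := by
    rw [← Subgroup.inf_relIndex_right, Subgroup.relIndex_mul_index inf_le_right]
  obtain ⟨k, hk⟩ := Subgroup.relIndex_dvd_index_of_normal N C
  refine ⟨k, Nat.eq_of_mul_eq_mul_left (Nat.pos_of_ne_zero (Subgroup.index_ne_zero_of_finite
    (H := N.subgroupOf C))) ?_⟩
  show N.relIndex C * C.index = N.relIndex C * (C.relIndex N * k)
  rw [h1, ← h2, hk]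
  ring

/-- An abelian normal subgroup of prime power order of a nontrivial solvable group. -/
theorem exists_normal_abelian_pgroup {H : Type u} [Group H] [Finite H] [Group.IsSolvable H]
    [Nontrivial H] : ∃ (q : ℕ) (N : Subgroup H), q.Prime ∧ N.Normal ∧ N ≠ ⊥ ∧ IsPGroup q N ∧
      ∀ a ∈ N, ∀ b ∈ N, a * b = b * a := by
  classical
  obtain ⟨n, hn⟩ := Group.IsSolvable.solvable (G := H)
  have hex : ∃ n, derivedSeries H n = ⊥ := ⟨n, hn⟩
  obtain ⟨m, hm⟩ : ∃ m, Nat.find hex = m + 1 := Nat.exists_eq_succ_of_ne_zero (fun e => by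
    have := Nat.find_spec hex
    rw [e, derivedSeries_zero] at this
    exact top_ne_bot this)
  set A := derivedSeries H m with hA
  have hAne : A ≠ ⊥ := Nat.find_min hex (by omega)
  have hAab : ∀ a ∈ A, ∀ b ∈ A, a * b = b * a := by
    intro a ha b hb
    have h1 : ⁅a, b⁆ ∈ derivedSeries H (m + 1) := by
      rw [derivedSeries_succ]
      exact Subgroup.commutator_mem_commutator ha hb
    have h2 := Nat.find_spec hex
    rw [hm] at h2
    rw [h2, Subgroup.mem_bot, commutatorElement_eq_one_iff_commute] at h1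
    exact h1.eq
  have hA1 : Nat.card A ≠ 1 := fun e => hAne (Subgroup.card_eq_one.mp e)
  obtain ⟨q, hq, hqd⟩ := Nat.exists_prime_and_dvd hA1
  haveI : Fact q.Prime := ⟨hq⟩
  let P : Sylow q A := default
  haveI : IsMulCommutative A := ⟨⟨fun a b => Subtype.ext (hAab a a.2 b b.2)⟩⟩
  letI : CommGroup A := { (inferInstance : Group A) with mul_comm := fun a b => mul_comm' a b }
  haveI hPn : (P : Subgroup A).Normal := inferInstance
  haveI := P.characteristic_of_normal hPn
  haveI : A.Normal := derivedSeries_normal H m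
  refine ⟨q, (P : Subgroup A).map A.subtype, hq, inferInstance, fun e => ?_, P.2.map _, ?_⟩
  · rw [Subgroup.map_eq_bot_iff_of_injective _ A.subtype_injective] at e
    have h2 := P.not_dvd_index
    rw [e, Subgroup.index_bot] at h2
    exact h2 hqd
  · rintro _ ⟨a, -, rfl⟩ _ ⟨b, -, rfl⟩
    exact hAab a a.2 b b.2

/-- No nontrivial element of `r`-power order is real. -/
def NoRealPow (r : ℕ) (H : Type u) [Group H] : Prop :=
  ∀ x : H, IsConj x x⁻¹ → (∃ j : ℕ, x ^ r ^ j = 1) → x = 1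

/-- A solvable group generated by its `2`-elements without real `r`-elements has order prime to
the odd prime `r`. -/
theorem not_dvd_card_aux (n : ℕ) : ∀ (H : Type u) [Group H] [Finite H], Nat.card H = n →
    Group.IsSolvable H → Subgroup.closure {g : H | ∃ k : ℕ, orderOf g = 2 ^ k} = ⊤ →
    ∀ r : ℕ, r.Prime → r ≠ 2 → NoRealPow r H → ¬ r ∣ Nat.card H := by
  induction n using Nat.strong_induction_on with
  | _ n ih =>
    intro H _ _ hn hsol hgen r hr hr2 hno hdvd
    haveI := hsol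
    haveI : Fact r.Prime := ⟨hr⟩
    haveI : Fact (Nat.Prime 2) := ⟨Nat.prime_two⟩
    rcases subsingleton_or_nontrivial H with hs | hnt
    · rw [Nat.card_unique] at hdvd
      exact hr.ne_one (Nat.dvd_one.mp hdvd)
    obtain ⟨q, N, hq, hN, hNne, hNq, hNab⟩ := exists_normal_abelian_pgroup (H := H)
    haveI := hN
    let φ := QuotientGroup.mk' N
    have hlt : Nat.card (H ⧸ N) < n := by
      rw [← hn, Subgroup.card_eq_card_quotient_mul_card_subgroup N]
      exact lt_mul_of_one_lt_right Nat.card_pos ((Subgroup.one_lt_card_iff_ne_bot N).mpr hNne)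
    have hgen' : Subgroup.closure {g : H ⧸ N | ∃ k : ℕ, orderOf g = 2 ^ k} = ⊤ := by
      refine top_le_iff.mp ?_
      rw [← Subgroup.map_top_of_surjective φ (QuotientGroup.mk'_surjective N), ← hgen,
        MonoidHom.map_closure]
      refine Subgroup.closure_mono ?_
      rintro _ ⟨g, ⟨k, hk⟩, rfl⟩
      obtain ⟨i, -, hi⟩ := (Nat.dvd_prime_pow Nat.prime_two).mp (hk ▸ orderOf_map_dvd φ g)
      exact ⟨i, hi⟩
    have hno' : NoRealPow r (H ⧸ N) := by
      rintro x hx ⟨j, hj⟩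
      have hro : Odd r := hr.odd_of_ne_two hr2
      have hxo : Odd (orderOf x) := (hro.pow).of_dvd_nat (orderOf_dvd_of_pow_eq_one hj)
      obtain ⟨y, rfl, hy, -⟩ := exists_real_odd_lift N hx hxo
      obtain ⟨i, m, hm, him⟩ :=
        Nat.exists_eq_pow_mul_and_not_dvd (orderOf_pos y).ne' r hr.ne_one
      have hym : y ^ m = 1 := by
        refine hno _ ?_ ⟨i, by rw [← pow_mul, mul_comm, ← him, pow_orderOf_eq_one]⟩
        obtain ⟨c, hc⟩ := isConj_iff.mp hy
        exact isConj_iff.mpr ⟨c, by rw [← conj_pow, hc, inv_pow]⟩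
      have h1 : orderOf (QuotientGroup.mk y : H ⧸ N) ∣ m :=
        (orderOf_map_dvd φ y).trans (orderOf_dvd_of_pow_eq_one hym)
      exact orderOf_eq_one_iff.mp (Nat.eq_one_of_dvd_coprimes
        (((Nat.Prime.coprime_iff_not_dvd hr).mpr hm).pow_left j)
        (orderOf_dvd_of_pow_eq_one hj) h1)
    have hquot : ¬ r ∣ Nat.card (H ⧸ N) :=
      ih _ hlt (H ⧸ N) rfl inferInstance hgen' r hr hr2 hno'
    -- `N` is an `r`-group centralized by every `2`-element
    obtain ⟨a, ha⟩ : ∃ a, Nat.card N = q ^ a := by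
      haveI : Fact q.Prime := ⟨hq⟩
      exact IsPGroup.iff_card.mp hNq
    have hqr : q = r := by
      by_contra hne
      rw [Subgroup.card_eq_card_quotient_mul_card_subgroup N, ha, hr.dvd_mul] at hdvd
      rcases hdvd with h | h
      · exact hquot h
      · exact hne ((Nat.prime_dvd_prime_iff_eq hr hq).mp (hr.dvd_of_dvd_pow h)).symm
    subst hqr
    have hcent : ∀ g : H, (∃ k, orderOf g = 2 ^ k) → ∀ u ∈ N, g * u * g⁻¹ = u := by
      rintro g ⟨k, hk⟩
      -- descend along the powers `g ^ 2 ^ i`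
      have hdesc : ∀ i, i ≤ k → ∀ u ∈ N, g ^ 2 ^ (k - i) * u * (g ^ 2 ^ (k - i))⁻¹ = u := by
        intro i
        induction i with
        | zero => intro _ u _; rw [Nat.sub_zero, ← hk, pow_orderOf_eq_one]; simp
        | succ i ih' =>
          intro hi u hu
          set h := g ^ 2 ^ (k - (i + 1)) with hh
          have hh2 : h * (h * u * h⁻¹) * h⁻¹ = u := by
            have := ih' (by omega) u hu
            rw [show k - i = k - (i + 1) + 1 by omega, pow_succ, pow_mul, sq, ← hh] at this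
            conv_rhs => rw [← this]
            simp [mul_assoc]
          let w := u * (h * u * h⁻¹)⁻¹
          have hw : w ∈ N := mul_mem hu (inv_mem (hN.conj_mem u hu h))
          have hw1 : w = 1 := by
            refine hno w (isConj_iff.mpr ⟨h, ?_⟩) ?_
            · rw [show h * w * h⁻¹ = (h * u * h⁻¹) * (h * (h * u * h⁻¹) * h⁻¹)⁻¹ by
                simp [w, mul_assoc], hh2, mul_inv_rev, inv_inv]
            · obtain ⟨j, hj⟩ := IsPGroup.iff_orderOf.mp hNq ⟨w, hw⟩
              rw [Subgroup.orderOf_mk] at hj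
              exact ⟨j, hj ▸ pow_orderOf_eq_one w⟩
          exact (mul_inv_eq_one.mp hw1).symm
      intro u hu
      have := hdesc k le_rfl u hu
      rwa [Nat.sub_self, pow_zero, pow_one] at this
    have hNc : N ≤ Subgroup.center H := by
      intro u hu
      rw [Subgroup.mem_center_iff]
      intro g
      have hle : Subgroup.closure {g : H | ∃ k : ℕ, orderOf g = 2 ^ k} ≤
          Subgroup.centralizer ({u} : Set H) := by
        rw [Subgroup.closure_le]
        intro g hg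
        exact Subgroup.mem_centralizer_singleton_iff.mpr
          (mul_inv_eq_iff_eq_mul.mp (hcent g hg u hu))
      exact Subgroup.mem_centralizer_singleton_iff.mp (hle (by rw [hgen]; trivial))
    have hcop : (Nat.card N).Coprime N.index := by
      rw [ha]
      exact ((Nat.Prime.coprime_iff_not_dvd hr).mpr hquot).pow_left a
    obtain ⟨C, hC⟩ := Subgroup.exists_right_complement'_of_coprime hcop
    haveI hCn : C.Normal := ⟨fun c hc g => by
      have hg : g ∈ N ⊔ C := by rw [hC.sup_eq_top]; trivial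
      obtain ⟨u, hu, c', hc', rfl⟩ := Subgroup.mem_sup_of_normal_left.mp hg
      have hmem : c' * c * c'⁻¹ ∈ C := mul_mem (mul_mem hc' hc) (inv_mem hc')
      have hcu : (c' * c * c'⁻¹) * u = u * (c' * c * c'⁻¹) :=
        Subgroup.mem_center_iff.mp (hNc hu) _
      rw [show u * c' * c * (u * c')⁻¹ = u * (c' * c * c'⁻¹) * u⁻¹ by simp [mul_assoc], ← hcu,
        mul_inv_cancel_right]
      exact hmem⟩
    have hCidx : C.index = q ^ a := by rw [hC.index_eq_card, ha]
    have hCtop : C = ⊤ := by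
      rw [eq_top_iff, ← hgen, Subgroup.closure_le]
      rintro g ⟨k, hk⟩
      rw [SetLike.mem_coe, ← QuotientGroup.eq_one_iff]
      refine orderOf_eq_one_iff.mp (Nat.eq_one_of_dvd_coprimes
        ((((Nat.coprime_primes Nat.prime_two hr).mpr hr2.symm).pow_left k).pow_right a)
        (hk ▸ orderOf_map_dvd (QuotientGroup.mk' C) g) ?_)
      rw [← hCidx, Subgroup.index_eq_card]
      exact orderOf_dvd_natCard _
    have hN1 : Nat.card N = 1 := by rw [← hC.index_eq_card, hCtop, Subgroup.index_top]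
    exact hNne (Subgroup.card_eq_one.mp hN1)

variable {G : Type u} [Group G] [Finite G]

/-- The subgroup generated by the `2`-elements. -/
abbrev gen2 (G : Type u) [Group G] : Subgroup G :=
  Subgroup.closure {g : G | ∃ k : ℕ, orderOf g = 2 ^ k}

instance gen2_normal : (gen2 G).Normal := ⟨fun u hu a => by
  induction hu using Subgroup.closure_induction with
  | mem w hw =>
    obtain ⟨k, hk⟩ := hw
    exact Subgroup.subset_closure ⟨k, by rw [Small.orderOf_conj_eq, hk]⟩
  | one => simp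
  | mul p q _ _ ihp ihq =>
    rw [show a * (p * q) * a⁻¹ = (a * p * a⁻¹) * (a * q * a⁻¹) by simp [mul_assoc]]
    exact mul_mem ihp ihq
  | inv p _ ih => rw [← conj_inv]; exact inv_mem ih⟩

theorem gen2_generated :
    Subgroup.closure {g : gen2 G | ∃ k : ℕ, orderOf g = 2 ^ k} = ⊤ := by
  rw [← top_le_iff, ← Subgroup.map_le_map_iff_of_injective (gen2 G).subtype_injective,
    ← MonoidHom.range_eq_map, Subgroup.range_subtype, MonoidHom.map_closure]
  refine Subgroup.closure_mono ?_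
  rintro g ⟨k, hk⟩
  exact ⟨⟨g, Subgroup.subset_closure ⟨k, hk⟩⟩, ⟨k, by rwa [Subgroup.orderOf_mk]⟩, rfl⟩

theorem isConj_gen2_iff (x : gen2 G) : IsConj x x⁻¹ ↔ IsConj (x : G) (x : G)⁻¹ := by
  constructor
  · intro h
    obtain ⟨c, hc⟩ := isConj_iff.mp h
    exact isConj_iff.mpr ⟨c, congrArg Subtype.val hc⟩
  · intro h
    obtain ⟨g, hg, hgx⟩ := RealElements.exists_two_element_inverting h
    exact isConj_iff.mpr ⟨⟨g, Subgroup.subset_closure hg⟩, Subtype.ext hgx⟩

theorem idx_gen2_dvd (x : gen2 G) : idx x ∣ idx (x : G) := by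
  have h1 : Subgroup.centralizer ({x} : Set (gen2 G)) =
      (Subgroup.centralizer ({(x : G)} : Set G)).subgroupOf (gen2 G) := by
    ext k
    rw [Subgroup.mem_centralizer_singleton_iff, Subgroup.mem_subgroupOf,
      Subgroup.mem_centralizer_singleton_iff]
    exact ⟨fun h => congrArg Subtype.val h, fun h => Subtype.ext h⟩
  rw [idx, h1]
  exact relIndex_dvd_index_normal _ _

theorem idx_one_of_central {x : G} (h : ∀ k, k * x = x * k) : idx x = 1 := by
  rw [idx, Subgroup.index_eq_one, eq_top_iff]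
  exact fun k _ => Subgroup.mem_centralizer_singleton_iff.mpr (h k)

/-- Two noncentral involutions with coprime odd class sizes and commuting conjugates: their
product has a class size meeting both. -/
theorem not_coprime_of_commute {t u : G} (ht : orderOf t = 2) (hu : orderOf u = 2)
    (hcomm : ∀ g : G, Commute u (g * u * g⁻¹)) (htu : Commute t u)
    (hcop : (idx t).Coprime (idx u)) (hto : Odd (idx t)) (hu1 : idx u ≠ 1) :
    ¬ (idx (t * u)).Coprime (idx u) := by
  classical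
  intro hw
  haveI : Fact (Nat.Prime 2) := ⟨Nat.prime_two⟩
  haveI : Fintype G := Fintype.ofFinite G
  obtain ⟨k, hk⟩ : ∃ k, k * u * k⁻¹ ≠ u := by
    by_contra hc
    push Not at hc
    exact hu1 (idx_one_of_central fun k => mul_inv_eq_iff_eq_mul.mp (hc k))
  set e := u * (k * u * k⁻¹) with he
  have he1 : e ≠ 1 := fun h => hk (by
    rw [← inv_eq_of_mul_eq_one_right h, Small.inv_eq_self_of_orderOf_two hu])
  have hes : e * e = 1 := by
    have hk2 : (k * u * k⁻¹) * (k * u * k⁻¹) = 1 :=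
      Small.mul_self_of_orderOf_two (by rw [Small.orderOf_conj_eq, hu])
    rw [← sq, he, (hcomm k).mul_pow, sq, sq, hk2, Small.mul_self_of_orderOf_two hu, one_mul]
  -- `(a t a⁻¹) (a u a⁻¹) (h u h⁻¹)` is conjugate to `t`
  have hmove : ∀ a h : G, (a * t * a⁻¹) * (a * u * a⁻¹) * (h * u * h⁻¹) ∈ cls t := by
    intro a h
    obtain ⟨c, hc1, hc2⟩ := SingularClassGraph.exists_conj_pair hw a h
    refine ⟨c, ?_⟩
    show c * t * c⁻¹ = _
    rw [show a * t * a⁻¹ * (a * u * a⁻¹) = a * (t * u) * a⁻¹ by simp [mul_assoc], ← hc1, ← hc2]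
    rw [show c * (t * u) * c⁻¹ * (c * u * c⁻¹) = c * (t * (u * u)) * c⁻¹ by simp [mul_assoc],
      Small.mul_self_of_orderOf_two hu, mul_one]
  have hmem : ∀ v : cls t, (v : G) * e ∈ cls t := by
    rintro ⟨_, a, rfl⟩
    obtain ⟨b, hb1, hb2⟩ := SingularClassGraph.exists_conj_pair hcop a 1
    have := hmove b k
    rw [hb1, hb2] at this
    simpa [he, mul_assoc] using this
  let f : cls t → cls t := fun v => ⟨v * e, hmem v⟩
  have hf : ∀ v, f (f v) = v := fun v => Subtype.ext (by simp [f, mul_assoc, hes])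
  let σ : Equiv.Perm (cls t) := ⟨f, f, hf, hf⟩
  have hσ : σ ^ 2 ^ 1 = 1 := by
    ext1 v
    simp [σ, sq, hf]
  obtain ⟨v, hv⟩ := Equiv.Perm.exists_fixed_point_of_prime (p := 2) (n := 1) (α := cls t)
    (by rw [← Nat.card_eq_fintype_card, card_cls, ← even_iff_two_dvd]
        exact Nat.not_even_iff_odd.mpr hto) hσ
  have hve : (v : G) * e = v := congrArg Subtype.val hv
  exact he1 (mul_left_cancel (hve.trans (mul_one _).symm))

/-- Disconnectedness. -/
def Disc (π₁ π₂ : Set ℕ) (G : Type u) [Group G] : Prop :=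
  π₁.Nonempty ∧ π₂.Nonempty ∧ Disjoint π₁ π₂ ∧
    (∀ q ∈ π₁ ∪ π₂, q.Prime ∧ ∃ x : G, IsConj x x⁻¹ ∧ q ∣ idx x) ∧
    (∀ q : ℕ, q.Prime → ∀ x : G, IsConj x x⁻¹ → q ∣ idx x → q ∈ π₁ ∨ q ∈ π₂) ∧
    ∀ a ∈ π₁, ∀ b ∈ π₂, ∀ x : G, IsConj x x⁻¹ → ¬ (a ∣ idx x ∧ b ∣ idx x)

omit [Finite G] in
theorem Disc.symm {π₁ π₂ : Set ℕ} (h : Disc π₁ π₂ G) : Disc π₂ π₁ G :=
  ⟨h.2.1, h.1, h.2.2.1.symm, fun q hq => h.2.2.2.1 q hq.symm,
    fun q hq x hx hqx => (h.2.2.2.2.1 q hq x hx hqx).symm,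
    fun a ha b hb x hx hab => h.2.2.2.2.2 b hb a ha x hx hab.symm⟩

omit [Finite G] in
theorem Disc.dich {π₁ π₂ : Set ℕ} (h : Disc π₁ π₂ G) : Dich π₁ G :=
  fun x hx p q hp hq hpx hqx hpπ => (h.2.2.2.2.1 q hq x hx hqx).resolve_right
    fun hq2 => h.2.2.2.2.2 p hpπ q hq2 x hx ⟨hpx, hqx⟩

/-- A part without `2` gives an involution. -/
theorem Disc.exists_piInv {π₁ π₂ : Set ℕ} (h : Disc π₁ π₂ G) (h2 : 2 ∉ π₁) :
    ∃ t : G, PiInv π₁ t := by
  obtain ⟨q, hq⟩ := h.1
  obtain ⟨hqp, x, hx, hqx⟩ := h.2.2.2.1 q (Or.inl hq)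
  have hall : ∀ p : ℕ, p.Prime → p ∣ idx x → p ∈ π₁ := fun p hp hpx =>
    h.dich x hx q p hqp hp hqx hpx hq
  have hne : idx x ≠ 1 := fun e => hqp.ne_one (Nat.dvd_one.mp (e ▸ hqx))
  have hodd : Odd (idx x) := Nat.not_even_iff_odd.mp fun he =>
    h2 (hall 2 Nat.prime_two (even_iff_two_dvd.mp he))
  exact ⟨x, orderOf_eq_prime (RealElements.sq_eq_one_of_odd_index hx hodd) fun e =>
    hne (idx_one_of_central fun k => by rw [e, one_mul, mul_one]), hne, hall⟩

/-- Some real class has even size. -/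
theorem Disc.two_vertex {π₁ π₂ : Set ℕ} (h : Disc π₁ π₂ G) :
    ∃ x : G, IsConj x x⁻¹ ∧ 2 ∣ idx x := by
  classical
  haveI : Fact (Nat.Prime 2) := ⟨Nat.prime_two⟩
  by_contra hc
  push Not at hc
  have h21 : 2 ∉ π₁ := fun h' => by
    obtain ⟨-, x, hx, h2x⟩ := h.2.2.2.1 2 (Or.inl h')
    exact hc x hx h2x
  have h22 : 2 ∉ π₂ := fun h' => by
    obtain ⟨-, x, hx, h2x⟩ := h.2.2.2.1 2 (Or.inr h')
    exact hc x hx h2x
  have hno : RealElements.NoOddReal G := fun x hx hxo hxr => sq_ne_one_of_odd hx hxo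
    (RealElements.sq_eq_one_of_odd_index hxr (Nat.not_even_iff_odd.mp fun he =>
      hc x hxr (even_iff_two_dvd.mp he)))
  let P : Sylow 2 G := default
  haveI hP := RealElements.sylow_two_normal hno P
  have hmemP : ∀ s : G, orderOf s = 2 → s ∈ (P : Subgroup G) := by
    intro s hs
    obtain ⟨R, hR⟩ := (IsPGroup.of_card (p := 2) (n := 1)
      (G := Subgroup.zpowers s) (by rw [Nat.card_zpowers, hs, pow_one])).exists_le_sylow
    haveI := Sylow.unique_of_normal P hP
    exact Subsingleton.elim R P ▸ hR (Subgroup.mem_zpowers s)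
  have hPC : ∀ s : G, orderOf s = 2 → ∀ a ∈ (P : Subgroup G), Commute a s := by
    intro s hs a ha
    have hso : Odd (idx s) := Nat.not_even_iff_odd.mp fun he =>
      hc s (isConj_self_inv_of_sq (Small.mul_self_of_orderOf_two hs)) (even_iff_two_dvd.mp he)
    obtain ⟨i, hi⟩ := IsPGroup.iff_card.mp P.2
    have h1 : (Subgroup.centralizer ({s} : Set G)).relIndex (P : Subgroup G) ∣ 2 ^ i :=
      hi ▸ Subgroup.relIndex_dvd_card _ _
    have h3 : (Subgroup.centralizer ({s} : Set G)).relIndex (P : Subgroup G) ∣ idx s :=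
      relIndex_dvd_index_normal _ _
    have hle : (P : Subgroup G) ≤ Subgroup.centralizer ({s} : Set G) :=
      Subgroup.relIndex_eq_one.mp (Nat.eq_one_of_dvd_coprimes
        ((Nat.coprime_two_left.mpr hso).pow_left i) h1 h3)
    exact Subgroup.mem_centralizer_singleton_iff.mp (hle ha)
  have hcomm : ∀ s s' : G, orderOf s = 2 → orderOf s' = 2 → Commute s s' := fun s s' hs hs' =>
    hPC s' hs' s (hmemP s hs)
  obtain ⟨t, ht⟩ := h.exists_piInv h21
  obtain ⟨u, hu⟩ := h.symm.exists_piInv h22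
  have hcop : (idx t).Coprime (idx u) := Nat.coprime_of_dvd fun p hp hpt hpu =>
    Set.disjoint_left.mp h.2.2.1 (ht.2.2 p hp hpt) (hu.2.2 p hp hpu)
  have hconj : ∀ v : G, orderOf v = 2 → ∀ g : G, Commute v (g * v * g⁻¹) := fun v hv g =>
    hcomm v _ hv (by rw [Small.orderOf_conj_eq, hv])
  have h1 := not_coprime_of_commute ht.1 hu.1 (hconj u hu.1) (hcomm t u ht.1 hu.1) hcop
    (odd_idx h21 ht) hu.2.1
  have h3 := not_coprime_of_commute hu.1 ht.1 (hconj t ht.1) (hcomm u t hu.1 ht.1) hcop.symm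
    (odd_idx h22 hu) ht.2.1
  rw [← (hcomm t u ht.1 hu.1).eq] at h3
  have hw : IsConj (t * u) (t * u)⁻¹ := by
    refine isConj_self_inv_of_sq ?_
    rw [← sq, (hcomm t u ht.1 hu.1).mul_pow, sq, sq, Small.mul_self_of_orderOf_two hu.1,
      Small.mul_self_of_orderOf_two ht.1, one_mul]
  obtain ⟨b, hb, hb1, hb2⟩ := Nat.Prime.not_coprime_iff_dvd.mp h1
  obtain ⟨a, ha, ha1, ha2⟩ := Nat.Prime.not_coprime_iff_dvd.mp h3
  exact h.2.2.2.2.2 a (ht.2.2 a ha ha2) b (hu.2.2 b hb hb2) _ hw ⟨ha1, hb1⟩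

/-- Structure of the subgroup generated by the `2`-elements. -/
theorem Disc.structure {π₁ π₂ : Set ℕ} (h : Disc π₁ π₂ G)
    (hno : ¬ RealElements.NoOddReal G) :
    (∃ ρ₁ ρ₂ : Set ℕ, Disc ρ₁ ρ₂ (gen2 G)) ∧
      ∀ x : gen2 G, IsConj x x⁻¹ → Odd (idx x) ∨ ∃ j : ℕ, idx x = 2 ^ j := by
  classical
  haveI : Fintype G := Fintype.ofFinite G
  haveI : Fact (Nat.Prime 2) := ⟨Nat.prime_two⟩
  obtain ⟨σ₁, σ₂, hσ, h2⟩ : ∃ σ₁ σ₂ : Set ℕ, Disc σ₁ σ₂ G ∧ 2 ∉ σ₁ := by
    by_cases h21 : 2 ∈ π₁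
    · exact ⟨π₂, π₁, h.symm, fun h22 => Set.disjoint_left.mp h.2.2.1 h21 h22⟩
    · exact ⟨π₁, π₂, h, h21⟩
  have hd := hσ.dich
  obtain ⟨t, ht⟩ := hσ.exists_piInv h2
  haveI : Group.IsSolvable G := isSolvable_aux _ G rfl σ₁ h2 hd t ht
  -- a prime outside `σ₁` gives a real element with a fixed conjugate of `t`
  have hfixed : ∀ g : G, (∃ j : ℕ, orderOf g = 2 ^ j) → ∃ a : G, Commute g (a * t * a⁻¹) := by
    rintro g ⟨j, hj⟩
    let σ : Equiv.Perm (cls t) :=
      { toFun := fun u => ⟨g * u * g⁻¹, by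
          obtain ⟨_, b, rfl⟩ := u; exact ⟨g * b, by simp [mul_assoc]⟩⟩
        invFun := fun u => ⟨g⁻¹ * u * g, by
          obtain ⟨_, b, rfl⟩ := u; exact ⟨g⁻¹ * b, by simp [mul_assoc]⟩⟩
        left_inv := fun u => Subtype.ext (by simp [mul_assoc])
        right_inv := fun u => Subtype.ext (by simp [mul_assoc]) }
    have hiter : ∀ n : ℕ, ∀ u : cls t, ((σ ^ n) u : G) = g ^ n * u * (g ^ n)⁻¹ := by
      intro n
      induction n with
      | zero => intro u; simp
      | succ n ih =>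
        intro u
        rw [pow_succ, Equiv.Perm.mul_apply, ih]
        simp [σ, pow_succ, mul_assoc]
    have hσ' : σ ^ 2 ^ j = 1 := by
      ext u
      rw [hiter, ← hj, pow_orderOf_eq_one]
      simp
    obtain ⟨⟨_, a, rfl⟩, hu⟩ := Equiv.Perm.exists_fixed_point_of_prime (p := 2) (n := j)
      (α := cls t) (by
        rw [← Nat.card_eq_fintype_card, card_cls, ← even_iff_two_dvd]
        exact Nat.not_even_iff_odd.mpr (odd_idx h2 ht)) hσ'
    exact ⟨a, mul_inv_eq_iff_eq_mul.mp (congrArg Subtype.val hu)⟩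
  have hpiconj : ∀ a : G, PiInv σ₁ (a * t * a⁻¹) := fun a => by
    have hc : cls (a * t * a⁻¹) = cls t := by
      ext u
      constructor
      · rintro ⟨b, rfl⟩; exact ⟨b * a, by simp [mul_assoc]⟩
      · rintro ⟨b, rfl⟩; exact ⟨b * a⁻¹, by simp [mul_assoc]⟩
    have hi : idx (a * t * a⁻¹) = idx t := by rw [← card_cls, ← card_cls, hc]
    exact ⟨by rw [Small.orderOf_conj_eq, ht.1], hi ▸ ht.2.1, hi ▸ ht.2.2⟩
  -- no real element of odd order centralizes a conjugate of `t`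
  have hnocomm : ∀ x : G, IsConj x x⁻¹ → Odd (orderOf x) → x ≠ 1 →
      ∀ a : G, ¬ Commute x (a * t * a⁻¹) := by
    intro x hx hxo hx1 a hc
    obtain ⟨g, hg, hgx⟩ := RealElements.exists_two_element_inverting hx
    obtain ⟨b, hb⟩ := hfixed g hg
    obtain ⟨c, hcx, hca⟩ := exists_conj_of_real h2 hd hx (sq_ne_one_of_odd hx1 hxo) (hpiconj a)
      (b * a⁻¹)
    rw [show b * a⁻¹ * (a * t * a⁻¹) * (b * a⁻¹)⁻¹ = b * t * b⁻¹ by simp [mul_assoc]] at hca
    have hxb : Commute x (b * t * b⁻¹) := by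
      rw [← hca]
      exact (hcx.symm.mul_right hc).mul_right hcx.symm.inv_right
    refine noOddReal_centralizer h2 hd (hpiconj b)
      ⟨x, Subgroup.mem_centralizer_singleton_iff.mpr hxb.eq⟩ (fun e => hx1 (congrArg Subtype.val e))
      (by rwa [Subgroup.orderOf_mk]) ?_
    exact isConj_iff.mpr ⟨⟨g, Subgroup.mem_centralizer_singleton_iff.mpr hb.eq⟩, Subtype.ext hgx⟩
  -- the odd primes of the subgroup generated by the `2`-elements lie in `σ₁`
  have hprime : ∀ r : ℕ, r.Prime → r ≠ 2 → r ∣ Nat.card (gen2 G) → r ∈ σ₁ := by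
    intro r hr hr2 hrd
    by_contra hrσ
    haveI : Fact r.Prime := ⟨hr⟩
    refine not_dvd_card_aux _ (gen2 G) rfl inferInstance gen2_generated r hr hr2 ?_ hrd
    rintro x hx ⟨j, hj⟩
    by_contra hx1
    have hxo : Odd (orderOf (x : G)) := by
      rw [Subgroup.orderOf_coe]
      exact ((hr.odd_of_ne_two hr2).pow).of_dvd_nat (orderOf_dvd_of_pow_eq_one hj)
    let σ : Equiv.Perm (cls t) :=
      { toFun := fun u => ⟨(x : G) * u * (x : G)⁻¹, by
          obtain ⟨_, b, rfl⟩ := u; exact ⟨x * b, by simp [mul_assoc]⟩⟩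
        invFun := fun u => ⟨(x : G)⁻¹ * u * x, by
          obtain ⟨_, b, rfl⟩ := u; exact ⟨(x : G)⁻¹ * b, by simp [mul_assoc]⟩⟩
        left_inv := fun u => Subtype.ext (by simp [mul_assoc])
        right_inv := fun u => Subtype.ext (by simp [mul_assoc]) }
    have hiter : ∀ n : ℕ, ∀ u : cls t, ((σ ^ n) u : G) = (x : G) ^ n * u * ((x : G) ^ n)⁻¹ := by
      intro n
      induction n with
      | zero => intro u; simp
      | succ n ih =>
        intro u
        rw [pow_succ, Equiv.Perm.mul_apply, ih]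
        simp [σ, pow_succ, mul_assoc]
    have hσ' : σ ^ r ^ j = 1 := by
      ext u
      rw [hiter, ← Subgroup.coe_pow, hj]
      simp
    obtain ⟨⟨_, a, rfl⟩, hu⟩ := Equiv.Perm.exists_fixed_point_of_prime (p := r) (n := j)
      (α := cls t) (by
        rw [← Nat.card_eq_fintype_card, card_cls]
        exact fun h' => hrσ (ht.2.2 r hr h')) hσ'
    exact hnocomm x ((isConj_gen2_iff x).mp hx) hxo (fun e => hx1 (Subtype.ext e)) a
      (mul_inv_eq_iff_eq_mul.mp (congrArg Subtype.val hu))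
  -- a real element of odd order
  obtain ⟨x₀, hx₀1, hx₀o, hx₀r⟩ : ∃ x : G, x ≠ 1 ∧ Odd (orderOf x) ∧ IsConj x x⁻¹ := by
    simp only [RealElements.NoOddReal, not_forall, not_not] at hno
    obtain ⟨x, h1, h3, h4⟩ := hno
    exact ⟨x, h1, h3, h4⟩
  have hx₀K : x₀ ∈ gen2 G := by
    obtain ⟨g, hg, hgx⟩ := RealElements.exists_two_element_inverting hx₀r
    have hgK : g ∈ gen2 G := Subgroup.subset_closure hg
    have h1 : x₀ * g * x₀⁻¹ * g⁻¹ ∈ gen2 G :=
      mul_mem ((inferInstance : (gen2 G).Normal).conj_mem g hgK x₀) (inv_mem hgK)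
    rw [show x₀ * g * x₀⁻¹ * g⁻¹ = x₀ * (g * x₀⁻¹ * g⁻¹) by simp [mul_assoc], ← conj_inv, hgx,
      inv_inv] at h1
    obtain ⟨o, ho⟩ := hx₀o
    have h3 := pow_mem h1 (o + 1)
    rwa [← sq, ← pow_mul, show 2 * (o + 1) = orderOf x₀ + 1 by omega, pow_succ, pow_orderOf_eq_one,
      one_mul] at h3
  have hkey : ∀ x : gen2 G, IsConj x x⁻¹ → 2 ∣ idx x → ∃ j : ℕ, idx x = 2 ^ j := by
    intro x hx he
    refine ⟨_, Nat.eq_prime_pow_of_unique_prime_dvd Subgroup.index_ne_zero_of_finite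
      fun {a} ha hax => ?_⟩
    by_contra ha2
    have haσ := hprime a ha ha2 (hax.trans (Subgroup.index_dvd_card _))
    exact h2 (hd (x : G) ((isConj_gen2_iff x).mp hx) a 2 ha Nat.prime_two
      (hax.trans (idx_gen2_dvd x)) (he.trans (idx_gen2_dvd x)) haσ)
  refine ⟨?_, fun x hx => ?_⟩
  swap
  · rcases Nat.even_or_odd (idx x) with he | ho
    · exact Or.inr (hkey x hx (even_iff_two_dvd.mp he))
    · exact Or.inl ho
  refine ⟨{2}, {q | q.Prime ∧ q ≠ 2 ∧ ∃ x : gen2 G, IsConj x x⁻¹ ∧ q ∣ idx x},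
    Set.singleton_nonempty 2, ?_, ?_, ?_, ?_, ?_⟩
  · have htK : t ∈ gen2 G := Subgroup.subset_closure ⟨1, by rw [ht.1, pow_one]⟩
    have htr : IsConj (⟨t, htK⟩ : gen2 G) (⟨t, htK⟩ : gen2 G)⁻¹ :=
      (isConj_gen2_iff _).mpr (isConj_self_inv_of_sq (Small.mul_self_of_orderOf_two ht.1))
    have hne : idx (⟨t, htK⟩ : gen2 G) ≠ 1 := by
      intro e
      rw [idx, Subgroup.index_eq_one] at e
      refine hnocomm x₀ hx₀r hx₀o hx₀1 1 ?_
      have h1 : (⟨x₀, hx₀K⟩ : gen2 G) ∈
          Subgroup.centralizer ({⟨t, htK⟩} : Set (gen2 G)) := by rw [e]; trivial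
      rw [one_mul, inv_one, mul_one]
      exact congrArg Subtype.val (Subgroup.mem_centralizer_singleton_iff.mp h1)
    obtain ⟨q, hq, hqd⟩ := Nat.exists_prime_and_dvd hne
    exact ⟨q, hq, fun e => Nat.not_even_iff_odd.mpr (odd_idx h2 ht)
      (even_iff_two_dvd.mpr (e ▸ hqd.trans (idx_gen2_dvd _))), ⟨t, htK⟩, htr, hqd⟩
  · rw [Set.disjoint_left]
    rintro q hq ⟨-, hq2, -⟩
    exact hq2 hq
  · rintro q (hq | ⟨hq, -, hx⟩)
    · rw [Set.mem_singleton_iff.mp hq]
      refine ⟨Nat.prime_two, ⟨x₀, hx₀K⟩, (isConj_gen2_iff _).mpr hx₀r,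
        even_iff_two_dvd.mp (Nat.not_odd_iff_even.mp fun ho => ?_)⟩
      have h3 := RealElements.sq_eq_one_of_odd_index ((isConj_gen2_iff ⟨x₀, hx₀K⟩).mpr hx₀r) ho
      exact sq_ne_one_of_odd hx₀1 hx₀o (congrArg Subtype.val h3)
    · exact ⟨hq, hx⟩
  · intro q hq x hx hqx
    by_cases hq2 : q = 2
    · exact Or.inl hq2
    · exact Or.inr ⟨hq, hq2, x, hx, hqx⟩
  · rintro a ha b ⟨hb, hb2, -⟩ x hx ⟨hax, hbx⟩
    rw [Set.mem_singleton_iff.mp ha] at hax
    obtain ⟨j, hj⟩ := hkey x hx hax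
    exact hb2 ((Nat.prime_dvd_prime_iff_eq hb Nat.prime_two).mp (hb.dvd_of_dvd_pow (hj ▸ hbx)))

end CfsgLib.RealClassGraph
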